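import Groth.Agent.L19.QCohFpqc.DescQCoh
import Groth.Agent.L07.StalkBijective

/-!
# Effectiveness of fpqc descent for quasi-coherent modules
-/

set_option autoImplicit false
set_option linter.style.haveILetI false
set_option linter.unusedSectionVars false
set_option backward.isDefEq.respectTransparency.types false
set_option backward.isDefEq.respectTransparency false

universe u

open CategoryTheory CategoryTheory.Limits AlgebraicGeometry TopologicalSpace Opposite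
open scoped TensorProduct

noncomputable section

namespace Groth.L19.QCohFpqc

set_option maxHeartbeats 400000

open Groth.L18.Frame (rs ro rs_rs rs_self rs_smul pull pull_rs pull_smul)
open Groth.L27.Assoc (Mo θ R R_smul R_pull ext_pull)

variable {ι : Type u} {S : Scheme.{u}} {X : ι → Scheme.{u}} {f : ∀ i, X i ⟶ S}
variable {D : Desc.modPF.{u}.DescentData f} [∀ i, Coh.IsQCoh (ob D i)]
variable (hf : Presieve.ofArrows X f ∈ Scheme.fpqcPrecoverage S)

/-- The cocycle of a section over a lift of `b'`. -/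
def liftFam {T : Scheme.{u}} {b' : T ⟶ S} (A : Atlas f b') {i : ι} (a : T ⟶ X i) (ha : a ≫ f i = b') :
    Sx (ob D i) a →+ A.Fam D :=
  AddMonoidHom.mk' (fun x l => tr D (A.g l ≫ a) (A.c l) (by rw [Category.assoc, ha, A.w l])
    (rsx (ob D i) (A.g l) a _ rfl x)) fun x x' => funext fun l => by
      simp only [map_add, Pi.add_apply]

theorem liftFam_injective {T : Scheme.{u}} [IsAffine T] {b' : T ⟶ S} (A : Atlas f b') {i : ι} (a : T ⟶ X i)
    (ha : a ≫ f i = b') : Function.Injective (liftFam (D := D) A a ha) :=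
  fun x x' h => eq_of_rsx (ob D i) A.g A.cov a x x' fun l => (tr_bijective D _ _ _).1 (congrFun h l)

theorem exists_liftFam {T : Scheme.{u}} [IsAffine T] {b' : T ⟶ S} (A : Atlas f b') {i : ι} (a : T ⟶ X i)
    (ha : a ≫ f i = b') {y : A.Fam D} (hy : A.Agree D y) : ∃ x, liftFam A a ha x = y := by
  obtain ⟨x, hx⟩ := Atlas.exists_val hy a (𝟙 T) (by rw [Category.id_comp, ha])
  refine ⟨x, funext fun l => ?_⟩
  refine (hx (A.P l) l (A.g l) (𝟙 _) (by rw [Category.id_comp, Category.comp_id]) _ _ rfl (Category.id_comp _) _).trans ?_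
  exact rsx_id _ _ _ _

theorem liftFam_smul_ev {T : Scheme.{u}} [IsAffine T] {b' : T ⟶ S} (A : Atlas f b') {i : ι} (a : T ⟶ X i)
    (ha : a ≫ f i = b') {O : S.Opens} (e : ⊤ ≤ b' ⁻¹ᵁ O) (e₁ : ⊤ ≤ a ⁻¹ᵁ (f i ⁻¹ᵁ O)) (β : Γ(T, ⊤))
    (m : Γ(descended D, O)) (l : Fin A.n) :
    liftFam A a ha (β • ev (ob D i) a e₁ (comp D m i)) l = (A.g l).appTop β • A.restr D e m l := by
  show tr D _ _ _ (rsx _ _ _ _ _ (β • ev (ob D i) a e₁ (comp D m i))) = _
  rw [rsx_smul, tr_smul, Atlas.restr_apply]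
  refine congrArg _ ?_
  rw [rsx_ev (ob D i) (A.g l) a _ rfl e₁ (top_le_comp _ _ e₁)]
  exact comp_compat D m _ _ _ _ _ _ _ _

include hf in
/-- The comparison map is bijective on small affine opens. -/
theorem bijective_φ_app {i : ι} {U : (X i).Opens} (hU : IsAffineOpen U) {V : S.Opens} (hV : IsAffineOpen V)
    (hUV : U ≤ f i ⁻¹ᵁ V) : Function.Bijective ((φ D i).app U) := by
  haveI : IsAffine (V : Scheme.{u}) := hV
  haveI : IsAffine (U : Scheme.{u}) := hU
  haveI := Groth.L19.flat_of_mem_fpqc hf i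
  haveI : Coh.IsQCoh (descended D) := isQCoh_descended hf
  obtain ⟨Rf⟩ := exists_ref f hf hV
  let A := Rf.atlas (Groth.L19.flat_of_mem_fpqc hf)
  let t : (U : Scheme.{u}) ⟶ V := (f i).resLE V U hUV
  haveI : Flat t := inferInstanceAs (Flat ((f i).resLE V U hUV))
  have ht : t ≫ V.ι = U.ι ≫ f i := Scheme.Hom.resLE_comp_ι _ _
  have eU : ⊤ ≤ U.ι ⁻¹ᵁ (f i ⁻¹ᵁ V) := fun x _ => hUV x.2
  have e' : ⊤ ≤ (U.ι ≫ f i) ⁻¹ᵁ V := eU
  letI := t.appTop.hom.toAlgebra
  obtain ⟨Θ, -, hΘ, hΘinj, hrange⟩ := exists_bc_descended (D := D) A t (U.ι ≫ f i) ht e'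
  let A' := A.pb t (U.ι ≫ f i) ht
  let G := liftFam (D := D) A' U.ι rfl
  obtain ⟨E, hE⟩ := exists_bc (descended D) t V.ι (U.ι ≫ f i) ht
  let ρ : Γ(Mo (descended D) (f i), U) → Sx (descended D) (U.ι ≫ f i) :=
    R (descended D) U.ι (f i) (U.ι ≫ f i) rfl (V := U) (V' := ⊤) (top_le_ι U)
  have hρ : Function.Bijective ρ :=
    ((ConcreteCategory.isIso_iff_bijective _).1
      (inferInstance : IsIso ((θ (descended D) U.ι (f i) (U.ι ≫ f i) rfl).app ⊤))).comp
      (bijective_ev (Mo (descended D) (f i)) U)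
  let χ : Γ(Mo (descended D) (f i), U) → A'.Fam D := fun w =>
    G (ev (ob D i) U.ι (top_le_ι U) ((φ D i).app U w))
  have hρadd : ∀ w w', ρ (w + w') = ρ w + ρ w' :=
    Groth.L27.Assoc.R_add (descended D) U.ι (f i) (U.ι ≫ f i) rfl (V := U) (V' := ⊤) (top_le_ι U)
  have hχadd : ∀ w w', χ (w + w') = χ w + χ w' := fun w w' => by
    show G _ = G _ + G _
    rw [map_add, ev_add, map_add]
  have key : ∀ (z : Γ(U, ⊤) ⊗[Γ(V, ⊤)] Sx (descended D) V.ι) (w : Γ(Mo (descended D) (f i), U)),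
      ρ w = E z → χ w = Θ z := by
    intro z
    induction z using TensorProduct.induction_on with
    | zero =>
      intro w hw
      rw [map_zero] at hw
      have h0 : w = 0 := hρ.1 (hw.trans
        (Groth.L27.Assoc.R_zero (descended D) U.ι (f i) (U.ι ≫ f i) rfl (V := U) (V' := ⊤) (top_le_ι U)).symm)
      rw [h0, map_zero]
      show G _ = _
      rw [map_zero, ev_zero, map_zero]
    | tmul β k =>
      intro w hw
      obtain ⟨m, rfl⟩ := (evEquiv (descended D) V).surjective k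
      obtain ⟨β', hβ⟩ := (ι_bijective U).2 β
      have hwe : w = β' • rs (Mo (descended D) (f i)) hUV (pull (f i) (descended D) V m) := by
        refine hρ.1 (hw.trans ?_)
        rw [hE, evEquiv_apply, rsx_ev (descended D) t V.ι _ ht (top_le_ι V) e']
        refine ((R_smul (descended D) U.ι (f i) (U.ι ≫ f i) rfl (top_le_ι U) β' _).trans ?_).symm
        rw [hβ]
        refine congrArg _ ?_
        exact R_pull (descended D) U.ι (f i) (U.ι ≫ f i) rfl m hUV (top_le_ι U) e'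
      rw [hwe]
      funext l
      show G _ l = _
      rw [Scheme.Modules.Hom.app_smul, Groth.L17.BC.PullSec.app_rs, φ_pull, ev_smul,
        ev_rs (ob D i) U.ι hUV eU (top_le_ι U), hβ]
      exact (liftFam_smul_ev A' U.ι rfl e' eU β m l).trans (hΘ β m l).symm
    | add z z' hz hz' =>
      intro w hw
      obtain ⟨w₁, hw₁⟩ := hρ.2 (E z)
      obtain ⟨w₂, hw₂⟩ := hρ.2 (E z')
      have : w = w₁ + w₂ := hρ.1 (by rw [hw, map_add, hρadd, hw₁, hw₂])
      rw [this, hχadd, hz w₁ hw₁, hz' w₂ hw₂, map_add]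
  refine ⟨fun w w' h => ?_, fun x => ?_⟩
  · obtain ⟨z, hz⟩ := E.surjective (ρ w)
    obtain ⟨z', hz'⟩ := E.surjective (ρ w')
    have h1 : χ w = χ w' := congrArg G (congrArg (ev (ob D i) U.ι (top_le_ι U)) h)
    rw [key z w hz.symm, key z' w' hz'.symm] at h1
    refine hρ.1 ?_
    rw [← hz, ← hz', hΘinj h1]
  · let y := G (ev (ob D i) U.ι (top_le_ι U) x)
    have hy : A'.Agree D y := fun Z _ k l p q e => by
      show tr D _ _ _ (rsx _ _ _ _ _ (tr D _ _ _ _)) = rsx _ _ _ _ _ (tr D _ _ _ _)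
      have hw₁ : p ≫ A'.g k ≫ U.ι = p ≫ A'.g k ≫ U.ι := rfl
      have hk : (p ≫ A'.g k ≫ U.ι) ≫ f i = (p ≫ A'.c k) ≫ f (A'.idx k) := by
        rw [Category.assoc, Category.assoc, Category.assoc, A'.w k]
      have hl : (p ≫ A'.g k ≫ U.ι) ≫ f i = (q ≫ A'.c l) ≫ f (A'.idx l) := by
        rw [hk]; exact A'.comp_eq e
      have e₂ : q ≫ A'.g l ≫ U.ι = p ≫ A'.g k ≫ U.ι := by rw [reassoc_of% e]
      rw [← tr_rsx D p _ _ _ (p ≫ A'.g k ≫ U.ι) (p ≫ A'.c k) rfl rfl hk,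
        ← tr_rsx D q _ _ _ (p ≫ A'.g k ≫ U.ι) (q ≫ A'.c l) e₂ rfl hl, tr_tr,
        rsx_rsx (ob D i) p (A'.g k) U.ι _ (p ≫ A'.g k ≫ U.ι) rfl rfl (Category.assoc _ _ _),
        rsx_rsx (ob D i) q (A'.g l) U.ι _ (p ≫ A'.g k ≫ U.ι) rfl e₂ ((Category.assoc _ _ _).trans e₂)]
      exact congrArg _ (rsx_congr (ob D i) e _ _ _ _ _)
    obtain ⟨z, hz⟩ := (hrange y).1 hy
    obtain ⟨w, hw⟩ := hρ.2 (E z)
    exact ⟨w, (bijective_ev (ob D i) U).1 (liftFam_injective A' U.ι rfl ((key z w hw).trans hz))⟩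

include hf in
theorem isIso_φ (i : ι) : IsIso (φ D i) := by
  haveI : Coh.IsQCoh (descended D) := isQCoh_descended hf
  haveI : Coh.IsQCoh (Mo (descended D) (f i)) := isQCoh_Mo _ _
  refine Groth.L07.ModBij.isIso_of_affine_cover _ fun x => ?_
  obtain ⟨V, hV, hxV, -⟩ := exists_isAffineOpen_mem_and_subset (x := f i x) (U := ⊤) trivial
  obtain ⟨U, hU, hxU, hle⟩ := exists_isAffineOpen_mem_and_subset (x := x) (U := f i ⁻¹ᵁ V) hxV
  exact ⟨U, hU, hxU, bijective_φ_app hf hU hV hle⟩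

/-- The comparison maps commute with the transition maps. -/
theorem φ_comm {T : Scheme.{u}} (q : T ⟶ S) {i j : ι} (a : T ⟶ X i) (b : T ⟶ X j) (ha : a ≫ f i = q)
    (hb : b ≫ f j = q) :
    (Scheme.Modules.pullback a).map (φ D i) ≫ Φ D a b (ha.trans hb.symm) =
      Φ ((Desc.modPF.{u}.toDescentData f).obj (descended D)) a b (ha.trans hb.symm) ≫
        (Scheme.Modules.pullback b).map (φ D j) := by
  have hcan : inv (θ (descended D) a (f i) q ha) ≫
      Φ ((Desc.modPF.{u}.toDescentData f).obj (descended D)) a b (ha.trans hb.symm) =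
      inv (θ (descended D) b (f j) q hb) := by
    rw [IsIso.inv_comp_eq, IsIso.eq_comp_inv]
    exact Φ_canonical (descended D) a b _ q ha hb
  rw [← cancel_epi (inv (θ (descended D) a (f i) q ha))]
  refine Eq.trans ?_ (((congrArg (· ≫ (Scheme.Modules.pullback b).map (φ D j)) hcan).symm).trans (Category.assoc _ _ _))
  refine ext_pull q fun O m => ?_
  have side : ∀ {l : ι} (c : T ⟶ X l) (hc : c ≫ f l = q) (ec : q ⁻¹ᵁ O ≤ c ⁻¹ᵁ (f l ⁻¹ᵁ O)),
      (inv (θ (descended D) c (f l) q hc) ≫ (Scheme.Modules.pullback c).map (φ D l)).app (q ⁻¹ᵁ O)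
          (pull q (descended D) O m) =
        rs (Mo (ob D l) c) ec (pull c (ob D l) (f l ⁻¹ᵁ O) (comp D m l)) := by
    intro l c hc ec
    have h1 : (θ (descended D) c (f l) q hc).app (q ⁻¹ᵁ O)
        (rs _ ec (pull c (Mo (descended D) (f l)) (f l ⁻¹ᵁ O) (pull (f l) (descended D) O m))) =
        pull q (descended D) O m := by
      have h := R_pull (descended D) c (f l) q hc m (V := f l ⁻¹ᵁ O) (V' := q ⁻¹ᵁ O) le_rfl ec le_rfl
      rw [rs_self, rs_self] at h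
      exact h
    rw [← h1]
    show ((θ (descended D) c (f l) q hc) ≫
      inv (θ (descended D) c (f l) q hc) ≫ (Scheme.Modules.pullback c).map (φ D l)).app (q ⁻¹ᵁ O) _ = _
    rw [IsIso.hom_inv_id_assoc, Groth.L17.BC.PullSec.app_rs]
    congr 1
    refine (congr($(congrArg (fun ψ => Scheme.Modules.Hom.app ψ (f l ⁻¹ᵁ O))
      ((Scheme.Modules.pullbackPushforwardAdjunction c).unit.naturality (φ D l))) _)).symm.trans ?_
    exact congrArg (pull c (ob D l) (f l ⁻¹ᵁ O)) (φ_pull D l O m)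
  have ea : q ⁻¹ᵁ O ≤ a ⁻¹ᵁ (f i ⁻¹ᵁ O) := by rw [← ha]; exact le_rfl
  have eb : q ⁻¹ᵁ O ≤ b ⁻¹ᵁ (f j ⁻¹ᵁ O) := by rw [← hb]; exact le_rfl
  show (Φ D a b _).app (q ⁻¹ᵁ O) ((inv (θ (descended D) a (f i) q ha) ≫
    (Scheme.Modules.pullback a).map (φ D i)).app (q ⁻¹ᵁ O) (pull q (descended D) O m)) = _
  rw [side a ha ea, side b hb eb]
  refine eq_of_affine (Mo (ob D j) b) fun U hU hle => (bijective_ev (Mo (ob D j) b) U).1 ?_
  haveI : IsAffine (U : Scheme.{u}) := hU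
  refine ((ConcreteCategory.isIso_iff_bijective _).1
    (inferInstance : IsIso ((θ (ob D j) U.ι b (U.ι ≫ b) rfl).app ⊤))).1 ?_
  have eW : ⊤ ≤ U.ι ⁻¹ᵁ (q ⁻¹ᵁ O) := fun x _ => hle x.2
  rw [ev_rs (Mo (ob D j) b) U.ι hle eW, ev_rs (Mo (ob D j) b) U.ι hle eW]
  show R (ob D j) U.ι b (U.ι ≫ b) rfl eW _ = R (ob D j) U.ι b (U.ι ≫ b) rfl eW _
  have h' : (U.ι ≫ a) ≫ f i = (U.ι ≫ b) ≫ f j := by rw [Category.assoc, Category.assoc, ha, hb]
  have ea' : ⊤ ≤ (U.ι ≫ a) ⁻¹ᵁ (f i ⁻¹ᵁ O) := fun x hx => ea (eW hx)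
  have eb' : ⊤ ≤ (U.ι ≫ b) ⁻¹ᵁ (f j ⁻¹ᵁ O) := fun x hx => eb (eW hx)
  rw [← Φ_R D U.ι a b (ha.trans hb.symm) (U.ι ≫ a) (U.ι ≫ b) rfl rfl h' eW,
    R_pull (ob D i) U.ι a (U.ι ≫ a) rfl (comp D m i) ea eW ea',
    R_pull (ob D j) U.ι b (U.ι ≫ b) rfl (comp D m j) eb eW eb']
  exact comp_compat D m _ _ _ _ _ h' ea' eb'

include hf in
/-- fpqc descent data of quasi-coherent modules are effective. -/
theorem exists_descended : ∃ M : S.Modules, M.IsQuasicoherent ∧
    Nonempty ((Desc.modPF.{u}.toDescentData f).obj M ≅ D) :=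
  haveI : ∀ i, IsIso (φ D i) := isIso_φ hf
  ⟨descended D, isQCoh_descended hf, ⟨Pseudofunctor.DescentData.isoMk (fun i => asIso (φ D i))
    fun T q i j a b ha hb => by
      have h := φ_comm (D := D) q a b ha hb
      rw [Φ_eq D a b _ q ha, Φ_eq ((Desc.modPF.{u}.toDescentData f).obj (descended D)) a b _ q ha] at h
      exact h⟩⟩

end Groth.L19.QCohFpqc
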