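import Groth.Agent.L19.QCohFpqc.Sx
import Groth.Prelude.Def_Desc

/-!
# Descent data for modules in terms of sections
-/

set_option autoImplicit false
set_option linter.style.haveILetI false
set_option backward.isDefEq.respectTransparency.types false
set_option backward.isDefEq.respectTransparency false

universe u

open CategoryTheory CategoryTheory.Limits AlgebraicGeometry TopologicalSpace Opposite

noncomputable section

namespace Groth.L19.QCohFpqc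

open Groth.L18.Frame (rs rs_rs rs_self pull)
open Groth.L27.Assoc (Mo θ R)

theorem mc_hom {Y T T' : Scheme.{u}} (M : Y.Modules) (g : T' ⟶ T) (a : T ⟶ Y) (a' : T' ⟶ Y) (h : g ≫ a = a')
    (e : a.op.toLoc ≫ g.op.toLoc = a'.op.toLoc) :
    (Desc.modPF.mapComp' a.op.toLoc g.op.toLoc a'.op.toLoc e).hom.toNatTrans.app M ≫ θ M g a a' h = 𝟙 _ := by
  subst h
  have h1 : (Desc.modPF.mapComp' a.op.toLoc g.op.toLoc (g ≫ a).op.toLoc e).hom.toNatTrans.app M =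
      (Scheme.Modules.pullbackComp g a).inv.app M := by
    show (Desc.modPF.mapComp' a.op.toLoc g.op.toLoc (a.op.toLoc ≫ g.op.toLoc) rfl).hom.toNatTrans.app M = _
    rw [Pseudofunctor.mapComp'_eq_mapComp]
    rfl
  rw [h1, θ, Scheme.Modules.pullbackCongr, eqToIso_refl]
  simp
  rfl

/-- The inverse of the composition constraint is the transition map. -/
theorem mc_inv {Y T T' : Scheme.{u}} (M : Y.Modules) (g : T' ⟶ T) (a : T ⟶ Y) (a' : T' ⟶ Y) (h : g ≫ a = a')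
    (e : a.op.toLoc ≫ g.op.toLoc = a'.op.toLoc) :
    (Desc.modPF.mapComp' a.op.toLoc g.op.toLoc a'.op.toLoc e).inv.toNatTrans.app M = θ M g a a' h := by
  let A : (Desc.modPF.map a'.op.toLoc).toFunctor.obj M ≅
      (Desc.modPF.map a.op.toLoc ≫ Desc.modPF.map g.op.toLoc).toFunctor.obj M :=
    (Cat.Hom.toNatIso (Desc.modPF.mapComp' a.op.toLoc g.op.toLoc a'.op.toLoc e)).app M
  have h1 : A.hom ≫ θ M g a a' h = 𝟙 _ := mc_hom M g a a' h e
  exact (Iso.hom_comp_eq_id A).1 h1 |>.symm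

variable {ι : Type u} {S : Scheme.{u}} {X : ι → Scheme.{u}} {f : ∀ i, X i ⟶ S}
variable (D : Desc.modPF.{u}.DescentData f)

/-- The modules of a descent datum. -/
abbrev ob (i : ι) : (X i).Modules := D.obj i

variable {T T' : Scheme.{u}} {i j k : ι}

/-- The transition isomorphisms. -/
def Φ (a : T ⟶ X i) (b : T ⟶ X j) (h : a ≫ f i = b ≫ f j) : Mo (ob D i) a ⟶ Mo (ob D j) b :=
  D.hom (a ≫ f i) a b rfl h.symm

theorem Φ_eq (a : T ⟶ X i) (b : T ⟶ X j) (h : a ≫ f i = b ≫ f j) (q : T ⟶ S) (hq : a ≫ f i = q) :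
    Φ D a b h = D.hom q a b hq (h.symm.trans hq) := by
  subst hq; rfl

theorem Φ_self (a : T ⟶ X i) : Φ D a a rfl = 𝟙 _ := D.hom_self _ a rfl

theorem Φ_comp (a : T ⟶ X i) (b : T ⟶ X j) (c : T ⟶ X k) (h : a ≫ f i = b ≫ f j) (h' : b ≫ f j = c ≫ f k) :
    Φ D a b h ≫ Φ D b c h' = Φ D a c (h.trans h') := by
  rw [Φ_eq D b c h' (a ≫ f i) h.symm]
  exact D.hom_comp _ a b c _ _ _

theorem θ_Φ (g : T' ⟶ T) (a : T ⟶ X i) (b : T ⟶ X j) (h : a ≫ f i = b ≫ f j) (a' : T' ⟶ X i) (b' : T' ⟶ X j)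
    (wa : g ≫ a = a') (wb : g ≫ b = b') (h' : a' ≫ f i = b' ≫ f j) :
    θ (ob D i) g a a' wa ≫ Φ D a' b' h' = (Scheme.Modules.pullback g).map (Φ D a b h) ≫ θ (ob D j) g b b' wb := by
  have e := D.pullHom_hom g (a ≫ f i) (a' ≫ f i) (by rw [← Category.assoc, wa]) a b rfl h.symm a' b' wa wb
  have ea : a.op.toLoc ≫ g.op.toLoc = a'.op.toLoc := by
    rw [← Quiver.Hom.comp_toLoc, ← op_comp, wa]
  have eb : b.op.toLoc ≫ g.op.toLoc = b'.op.toLoc := by
    rw [← Quiver.Hom.comp_toLoc, ← op_comp, wb]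
  have e' : (Desc.modPF.mapComp' a.op.toLoc g.op.toLoc a'.op.toLoc ea).hom.toNatTrans.app (ob D i) ≫
      (Scheme.Modules.pullback g).map (Φ D a b h) ≫ θ (ob D j) g b b' wb = Φ D a' b' h' := by
    rw [← mc_inv (ob D j) g b b' wb eb]
    exact e
  rw [← e', ← mc_inv (ob D i) g a a' wa ea]
  exact Iso.inv_hom_id_assoc ((Cat.Hom.toNatIso (Desc.modPF.mapComp' a.op.toLoc g.op.toLoc a'.op.toLoc ea)).app
    (ob D i)) _

/-- Naturality of the transition maps on sections. -/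
theorem Φ_R (g : T' ⟶ T) (a : T ⟶ X i) (b : T ⟶ X j) (h : a ≫ f i = b ≫ f j) (a' : T' ⟶ X i) (b' : T' ⟶ X j)
    (wa : g ≫ a = a') (wb : g ≫ b = b') (h' : a' ≫ f i = b' ≫ f j) {V : T.Opens} {V' : T'.Opens}
    (e : V' ≤ g ⁻¹ᵁ V) (s : Γ(Mo (ob D i) a, V)) :
    (Φ D a' b' h').app V' (R (ob D i) g a a' wa e s) = R (ob D j) g b b' wb e ((Φ D a b h).app V s) := by
  show (θ (ob D i) g a a' wa ≫ Φ D a' b' h').app V' (rs _ e (pull g (Mo (ob D i) a) V s)) = _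
  rw [θ_Φ D g a b h a' b' wa wb h']
  show (θ (ob D j) g b b' wb).app V' (((Scheme.Modules.pullback g).map (Φ D a b h)).app V' (rs _ e _)) =
    (θ (ob D j) g b b' wb).app V' (rs _ e (pull g (Mo (ob D j) b) V ((Φ D a b h).app V s)))
  rw [Groth.L17.BC.PullSec.app_rs]
  congr 2
  exact congr($(congrArg (fun φ => Scheme.Modules.Hom.app φ V)
    ((Scheme.Modules.pullbackPushforwardAdjunction g).unit.naturality (Φ D a b h))) s).symm

/-- The transition maps on global sections. -/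
def tr (a : T ⟶ X i) (b : T ⟶ X j) (h : a ≫ f i = b ≫ f j) : Sx (ob D i) a →+ Sx (ob D j) b :=
  ((Φ D a b h).app ⊤).hom

theorem tr_smul (a : T ⟶ X i) (b : T ⟶ X j) (h : a ≫ f i = b ≫ f j) (r : Γ(T, ⊤)) (s : Sx (ob D i) a) :
    tr D a b h (r • s) = r • tr D a b h s :=
  Scheme.Modules.Hom.app_smul (Φ D a b h) r s

theorem tr_rsx (g : T' ⟶ T) (a : T ⟶ X i) (b : T ⟶ X j) (h : a ≫ f i = b ≫ f j) (a' : T' ⟶ X i) (b' : T' ⟶ X j)
    (wa : g ≫ a = a') (wb : g ≫ b = b') (h' : a' ≫ f i = b' ≫ f j) (s : Sx (ob D i) a) :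
    tr D a' b' h' (rsx (ob D i) g a a' wa s) = rsx (ob D j) g b b' wb (tr D a b h s) :=
  Φ_R D g a b h a' b' wa wb h' le_top s

theorem tr_self (a : T ⟶ X i) (s : Sx (ob D i) a) : tr D a a rfl s = s := by
  show (Φ D a a rfl).app ⊤ s = s
  rw [Φ_self]
  rfl

theorem tr_tr (a : T ⟶ X i) (b : T ⟶ X j) (c : T ⟶ X k) (h : a ≫ f i = b ≫ f j) (h' : b ≫ f j = c ≫ f k)
    (s : Sx (ob D i) a) : tr D b c h' (tr D a b h s) = tr D a c (h.trans h') s := by
  show (Φ D a b h ≫ Φ D b c h').app ⊤ s = _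
  rw [Φ_comp D a b c h h']
  rfl

theorem tr_bijective (a : T ⟶ X i) (b : T ⟶ X j) (h : a ≫ f i = b ≫ f j) : Function.Bijective (tr D a b h) :=
  Function.bijective_iff_has_inverse.2 ⟨tr D b a h.symm, fun s => by rw [tr_tr, tr_self],
    fun s => by rw [tr_tr, tr_self]⟩

/-- The transition maps of the canonical datum of a module. -/
theorem Φ_canonical (M : S.Modules) (a : T ⟶ X i) (b : T ⟶ X j) (h : a ≫ f i = b ≫ f j) (q : T ⟶ S)
    (ha : a ≫ f i = q) (hb : b ≫ f j = q) :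
    Φ ((Desc.modPF.{u}.toDescentData f).obj M) a b h ≫ θ M b (f j) q hb = θ M a (f i) q ha := by
  subst ha
  have ea : (f i).op.toLoc ≫ a.op.toLoc = (a ≫ f i).op.toLoc := by rw [← Quiver.Hom.comp_toLoc, ← op_comp]
  have eb : (f j).op.toLoc ≫ b.op.toLoc = (a ≫ f i).op.toLoc := by
    rw [← Quiver.Hom.comp_toLoc, ← op_comp, hb]
  rw [← mc_inv M a (f i) (a ≫ f i) rfl ea, ← mc_inv M b (f j) (a ≫ f i) hb eb]
  refine (Category.assoc _ _ _).trans ?_
  refine (congrArg ((Desc.modPF.mapComp' (f i).op.toLoc a.op.toLoc (a ≫ f i).op.toLoc ea).inv.toNatTrans.app M ≫ ·)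
    (Iso.hom_inv_id ((Cat.Hom.toNatIso (Desc.modPF.mapComp' (f j).op.toLoc b.op.toLoc (a ≫ f i).op.toLoc eb)).app M))).trans ?_
  exact Category.comp_id _

/-- Evaluating a section of the canonical datum at a point and moving it to the other lift. -/
theorem R_tr_canonical (M : S.Modules) (a : T ⟶ X i) (b : T ⟶ X j) (h : a ≫ f i = b ≫ f j) (q : T ⟶ S)
    (ha : a ≫ f i = q) (hb : b ≫ f j = q) {V : (X i).Opens} {V' : (X j).Opens} (e : ⊤ ≤ a ⁻¹ᵁ V)
    (e' : ⊤ ≤ b ⁻¹ᵁ V') (s : Γ(Mo M (f i), V)) (t : Γ(Mo M (f j), V'))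
    (ht : tr ((Desc.modPF.{u}.toDescentData f).obj M) a b h (ev (Mo M (f i)) a e s) = ev (Mo M (f j)) b e' t) :
    R M a (f i) q ha (V' := ⊤) e s = R M b (f j) q hb (V' := ⊤) e' t := by
  show (θ M a (f i) q ha).app ⊤ (ev (Mo M (f i)) a e s) = (θ M b (f j) q hb).app ⊤ (ev (Mo M (f j)) b e' t)
  rw [← ht, ← Φ_canonical M a b h q ha hb]
  rfl

theorem tr_ev_canonical (M : S.Modules) (a : T ⟶ X i) (b : T ⟶ X j) (h : a ≫ f i = b ≫ f j)
    {V : S.Opens} (e : ⊤ ≤ a ⁻¹ᵁ (f i ⁻¹ᵁ V)) (e' : ⊤ ≤ b ⁻¹ᵁ (f j ⁻¹ᵁ V)) (m : Γ(M, V)) :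
    tr ((Desc.modPF.{u}.toDescentData f).obj M) a b h (ev (Mo M (f i)) a e (pull (f i) M V m)) =
      ev (Mo M (f j)) b e' (pull (f j) M V m) := by
  have key : (θ M b (f j) (a ≫ f i) h.symm).app ⊤
      (tr ((Desc.modPF.{u}.toDescentData f).obj M) a b h (ev (Mo M (f i)) a e (pull (f i) M V m))) =
      (θ M b (f j) (a ≫ f i) h.symm).app ⊤ (ev (Mo M (f j)) b e' (pull (f j) M V m)) := by
    show (Φ ((Desc.modPF.{u}.toDescentData f).obj M) a b h ≫ θ M b (f j) (a ≫ f i) h.symm).app ⊤ _ = _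
    rw [Φ_canonical M a b h (a ≫ f i) rfl h.symm]
    show R M a (f i) (a ≫ f i) rfl e (pull (f i) M V m) = R M b (f j) (a ≫ f i) h.symm e' (pull (f j) M V m)
    have ev1 : ⊤ ≤ (a ≫ f i) ⁻¹ᵁ V := e
    have h1 := Groth.L27.Assoc.R_pull M a (f i) (a ≫ f i) rfl m (V := f i ⁻¹ᵁ V) (V' := ⊤) le_rfl e ev1
    have h2 := Groth.L27.Assoc.R_pull M b (f j) (a ≫ f i) h.symm m (V := f j ⁻¹ᵁ V) (V' := ⊤) le_rfl e' ev1
    rw [rs_self] at h1 h2
    exact h1.trans h2.symm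
  exact ((ConcreteCategory.isIso_iff_bijective _).1
    (inferInstance : IsIso ((θ M b (f j) (a ≫ f i) h.symm).app ⊤))).1 key

/-- Morphisms of descent data commute with evaluation and transition. -/
theorem tr_ev_hom {D D' : Desc.modPF.{u}.DescentData f} (η : D ⟶ D') (a : T ⟶ X i) (b : T ⟶ X j)
    (h : a ≫ f i = b ≫ f j) {V : (X i).Opens} {V' : (X j).Opens} (e : ⊤ ≤ a ⁻¹ᵁ V) (e' : ⊤ ≤ b ⁻¹ᵁ V')
    (s : Γ(ob D i, V)) (t : Γ(ob D j, V')) (ht : tr D a b h (ev (ob D i) a e s) = ev (ob D j) b e' t) :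
    tr D' a b h (ev (ob D' i) a e ((η.hom i).app V s)) = ev (ob D' j) b e' ((η.hom j).app V' t) := by
  have key : ∀ {l : ι} (c : T ⟶ X l) {W : (X l).Opens} (ec : ⊤ ≤ c ⁻¹ᵁ W) (r : Γ(ob D l, W)),
      ((Scheme.Modules.pullback c).map (η.hom l)).app ⊤ (ev (ob D l) c ec r) =
        ev (ob D' l) c ec ((η.hom l).app W r) := fun {l} c {W} ec r => by
    rw [ev, ev, Groth.L17.BC.PullSec.app_rs]
    congr 1
    exact congr($(congrArg (fun φ => Scheme.Modules.Hom.app φ W)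
      ((Scheme.Modules.pullbackPushforwardAdjunction c).unit.naturality (η.hom l))) r).symm
  rw [← key, ← key, ← ht]
  exact congr($(congrArg (fun φ => Scheme.Modules.Hom.app φ ⊤) (η.comm (a ≫ f i) a b rfl h.symm)) (ev (ob D i) a e s))

end Groth.L19.QCohFpqc
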