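import Groth.Agent.L27.Assoc.Res
import Mathlib.AlgebraicGeometry.Morphisms.Affine
import Mathlib.AlgebraicGeometry.Morphisms.Flat
import Mathlib.RingTheory.IsTensorProduct
import Mathlib.RingTheory.Flat.Basic

/-!
# Global sections of pullbacks of a fixed module and descent along finite flat affine families

For a module `M` on `Y` and `a : T ⟶ Y`, `Sx M a` is the module of global sections of `a^* M`.
-/

set_option autoImplicit false
set_option linter.style.haveILetI false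
set_option linter.unusedSectionVars false
set_option backward.isDefEq.respectTransparency.types false
set_option backward.isDefEq.respectTransparency false

universe u

open CategoryTheory CategoryTheory.Limits AlgebraicGeometry TopologicalSpace Opposite
open scoped TensorProduct

noncomputable section

namespace Groth.L19.QCohFpqc

open Groth.L18.Frame (rs ro rs_rs rs_self rs_smul pull pull_rs pull_smul)
open Groth.L27.Assoc (Mo R R_add R_smul R_id R_comp R_congr R_pull exists_bcEquiv bijective_R_of_isOpenImmersion)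

variable {Y T T' T'' : Scheme.{u}} (M : Y.Modules)

/-- Global sections of the pullback. -/
abbrev Sx (a : T ⟶ Y) : Type u := Γ(Mo M a, (⊤ : T.Opens))

/-- Restriction along a morphism over `Y`. -/
def rsx (g : T' ⟶ T) (a : T ⟶ Y) (a' : T' ⟶ Y) (w : g ≫ a = a') : Sx M a →+ Sx M a' :=
  AddMonoidHom.mk' (R M g a a' w (V := ⊤) (V' := ⊤) le_top) (R_add M g a a' w le_top)

theorem rsx_apply (g : T' ⟶ T) (a : T ⟶ Y) (a' : T' ⟶ Y) (w : g ≫ a = a') (s : Sx M a) :
    rsx M g a a' w s = R M g a a' w (V := ⊤) (V' := ⊤) le_top s := rfl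

theorem rsx_smul (g : T' ⟶ T) (a : T ⟶ Y) (a' : T' ⟶ Y) (w : g ≫ a = a') (r : Γ(T, ⊤)) (s : Sx M a) :
    rsx M g a a' w (r • s) = g.appTop r • rsx M g a a' w s := by
  rw [rsx_apply, R_smul, rsx_apply]
  congr 1
  exact congr($((Scheme.Hom.app_eq_appLE g (U := ⊤)).symm) r)

theorem rsx_congr {g₁ g₂ : T' ⟶ T} (h : g₁ = g₂) (a : T ⟶ Y) (a' : T' ⟶ Y) (w₁ : g₁ ≫ a = a') (w₂ : g₂ ≫ a = a')
    (s : Sx M a) : rsx M g₁ a a' w₁ s = rsx M g₂ a a' w₂ s := by
  subst h; rfl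

theorem rsx_id (a : T ⟶ Y) (h : 𝟙 T ≫ a = a) (s : Sx M a) : rsx M (𝟙 T) a a h s = s :=
  (R_id M a (V := ⊤) (V' := ⊤) h le_top le_rfl s).trans (rs_self _ _ _)

theorem rsx_rsx (g' : T'' ⟶ T') (g : T' ⟶ T) (a : T ⟶ Y) (a' : T' ⟶ Y) (a'' : T'' ⟶ Y) (w : g ≫ a = a')
    (w' : g' ≫ a' = a'') (h : (g' ≫ g) ≫ a = a'') (s : Sx M a) :
    rsx M g' a' a'' w' (rsx M g a a' w s) = rsx M (g' ≫ g) a a'' h s :=
  R_comp M g a a' w g' a'' w' h le_top le_top le_top s

theorem rsx_isIso (g : T' ⟶ T) [IsIso g] (a : T ⟶ Y) (a' : T' ⟶ Y) (w : g ≫ a = a') :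
    Function.Bijective (rsx M g a a' w) := by
  have h1 : inv g ≫ a' = a := by rw [← w, IsIso.inv_hom_id_assoc]
  refine Function.bijective_iff_has_inverse.2 ⟨rsx M (inv g) a' a h1, fun s => ?_, fun s => ?_⟩
  · rw [rsx_rsx M (inv g) g a a' a w h1 (by rw [IsIso.inv_hom_id, Category.id_comp]),
      rsx_congr M (IsIso.inv_hom_id g) a a _ (Category.id_comp a), rsx_id]
  · rw [rsx_rsx M g (inv g) a' a a' h1 w (by rw [IsIso.hom_inv_id, Category.id_comp]),
      rsx_congr M (IsIso.hom_inv_id g) a' a' _ (Category.id_comp a'), rsx_id]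

/-- A section over an open, evaluated at a point landing in it. -/
def ev (a : T ⟶ Y) {W : Y.Opens} (e : ⊤ ≤ a ⁻¹ᵁ W) (s : Γ(M, W)) : Sx M a :=
  rs (Mo M a) e (pull a M W s)

theorem ev_add (a : T ⟶ Y) {W : Y.Opens} (e : ⊤ ≤ a ⁻¹ᵁ W) (s t : Γ(M, W)) :
    ev M a e (s + t) = ev M a e s + ev M a e t :=
  (congrArg (rs (Mo M a) e) (map_add
    (((Scheme.Modules.pullbackPushforwardAdjunction a).unit.app M).app W).hom s t)).trans (map_add _ _ _)

theorem ev_zero (a : T ⟶ Y) {W : Y.Opens} (e : ⊤ ≤ a ⁻¹ᵁ W) : ev M a e 0 = 0 :=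
  (congrArg (rs (Mo M a) e) (map_zero
    (((Scheme.Modules.pullbackPushforwardAdjunction a).unit.app M).app W).hom)).trans (map_zero _)

theorem ev_smul (a : T ⟶ Y) {W : Y.Opens} (e : ⊤ ≤ a ⁻¹ᵁ W) (r : Γ(Y, W)) (s : Γ(M, W)) :
    ev M a e (r • s) = a.appLE W ⊤ e r • ev M a e s := by
  rw [ev, pull_smul, rs_smul]
  rfl

theorem rsx_ev (g : T' ⟶ T) (a : T ⟶ Y) (a' : T' ⟶ Y) (w : g ≫ a = a') {W : Y.Opens} (e : ⊤ ≤ a ⁻¹ᵁ W)
    (e' : ⊤ ≤ a' ⁻¹ᵁ W) (s : Γ(M, W)) : rsx M g a a' w (ev M a e s) = ev M a' e' s :=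
  R_pull M g a a' w s e le_top e'

theorem ev_rs (a : T ⟶ Y) {W W' : Y.Opens} (h : W' ≤ W) (e : ⊤ ≤ a ⁻¹ᵁ W) (e' : ⊤ ≤ a ⁻¹ᵁ W') (s : Γ(M, W)) :
    ev M a e' (rs M h s) = ev M a e s := by
  rw [ev, ← pull_rs a M h, rs_rs]
  rfl

variable [Coh.IsQCoh M]

theorem isQCoh_Mo (a : T ⟶ Y) : Coh.IsQCoh (Mo M a) := Groth.L16.AffineBC.isQCoh_pullback a M

/-- Sections over affines are the base change. -/
theorem exists_bc [IsAffine T] [IsAffine T'] (g : T' ⟶ T) (a : T ⟶ Y) (a' : T' ⟶ Y) (w : g ≫ a = a') :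
    letI := g.appTop.hom.toAlgebra
    ∃ E : Γ(T', ⊤) ⊗[Γ(T, ⊤)] Sx M a ≃+ Sx M a', ∀ b m, E (b ⊗ₜ m) = b • rsx M g a a' w m := by
  have key : ∀ (φ : Γ(T, (⊤ : T.Opens)) →+* Γ(T', (⊤ : T'.Opens))),
      φ = (g.appLE ⊤ ⊤ le_top).hom →
      letI := φ.toAlgebra
      ∃ E : Γ(T', ⊤) ⊗[Γ(T, ⊤)] Sx M a ≃+ Sx M a', ∀ b m, E (b ⊗ₜ m) = b • rsx M g a a' w m := by
    rintro φ rfl
    haveI := isQCoh_Mo M a
    obtain ⟨E, hE⟩ := exists_bcEquiv M g a a' w (isAffineOpen_top T) (isAffineOpen_top T')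
      (le_top : (⊤ : T'.Opens) ≤ g ⁻¹ᵁ ⊤)
    exact ⟨E, hE⟩
  exact key _ (congrArg CommRingCat.Hom.hom (Scheme.Hom.app_eq_appLE g (U := ⊤)))

variable {U P : Scheme.{u}} [IsAffine U] [IsAffine T] [IsAffine T']

/-- Sections over a base change of affines are a tensor product. -/
theorem exists_bc_square {g : T' ⟶ U} {h : T ⟶ U} {p₁ : P ⟶ T'} {p₂ : P ⟶ T} (H : IsPullback p₁ p₂ g h)
    (a : T ⟶ Y) (a' : P ⟶ Y) (w : p₂ ≫ a = a') :
    letI := g.appTop.hom.toAlgebra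
    letI := Module.compHom (Sx M a) h.appTop.hom
    ∃ E : Γ(T', ⊤) ⊗[Γ(U, ⊤)] Sx M a ≃+ Sx M a', ∀ b m, E (b ⊗ₜ m) = p₁.appTop b • rsx M p₂ a a' w m := by
  haveI : IsAffine P := IsAffine.of_isIso H.isoPullback.hom
  letI := g.appTop.hom.toAlgebra
  letI := h.appTop.hom.toAlgebra
  letI := p₂.appTop.hom.toAlgebra
  letI := p₁.appTop.hom.toAlgebra
  letI : Algebra Γ(U, ⊤) Γ(P, ⊤) := (p₁.appTop.hom.comp g.appTop.hom).toAlgebra
  haveI : IsScalarTower Γ(U, ⊤) Γ(T', ⊤) Γ(P, ⊤) := IsScalarTower.of_algebraMap_eq fun _ => rfl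
  have hsq := isPushout_appTop_of_isPullback H
  haveI : IsScalarTower Γ(U, ⊤) Γ(T, ⊤) Γ(P, ⊤) := IsScalarTower.of_algebraMap_eq fun r => by
    exact congr($(hsq.w) r)
  letI := Module.compHom (Sx M a) h.appTop.hom
  haveI : IsScalarTower Γ(U, ⊤) Γ(T, ⊤) (Sx M a) := IsScalarTower.of_algebraMap_smul fun _ _ => rfl
  haveI : Algebra.IsPushout Γ(U, ⊤) Γ(T', ⊤) Γ(T, ⊤) Γ(P, ⊤) :=
    CommRingCat.isPushout_iff_isPushout.mp hsq
  obtain ⟨E, hE⟩ := exists_bc M p₂ a a' w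
  refine ⟨(Algebra.IsPushout.cancelBaseChange Γ(U, ⊤) Γ(T', ⊤) Γ(T, ⊤) Γ(P, ⊤) (Sx M a)).symm.toAddEquiv.trans E,
    fun b m => ?_⟩
  show E ((Algebra.IsPushout.cancelBaseChange Γ(U, ⊤) Γ(T', ⊤) Γ(T, ⊤) Γ(P, ⊤) (Sx M a)).symm (b ⊗ₜ m)) = _
  rw [Algebra.IsPushout.cancelBaseChange_symm_tmul, hE]
  rfl

section Algebra

/-- An element killed by a jointly faithfully flat family of flat algebras is zero. -/
theorem eq_zero_of_forall {A : Type u} [CommRing A] {κ : Type*} (B : κ → Type u) [∀ l, CommRing (B l)]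
    [∀ l, Algebra A (B l)] [∀ l, Module.Flat A (B l)]
    (hB : ∀ p : PrimeSpectrum A, ∃ l, p ∈ Set.range (PrimeSpectrum.comap (algebraMap A (B l))))
    {Q : Type*} [AddCommGroup Q] [Module A Q] (x : Q) (hx : ∀ l, (1 : B l) ⊗ₜ[A] x = 0) : x = 0 := by
  by_contra hne
  let I : Ideal A := LinearMap.ker (LinearMap.toSpanSingleton A Q x)
  have hI : I ≠ ⊤ := fun h => hne (by
    have : (1 : A) ∈ I := h ▸ Submodule.mem_top
    simpa [I] using this)
  obtain ⟨p, hp, hIp⟩ := Ideal.exists_le_maximal I hI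
  obtain ⟨l, q, hq⟩ := hB ⟨p, hp.isPrime⟩
  let φ : (A ⧸ I) →ₗ[A] Q := Submodule.liftQ I (LinearMap.toSpanSingleton A Q x) le_rfl
  have hφ : Function.Injective φ :=
    LinearMap.ker_eq_bot.1 (Submodule.ker_liftQ_eq_bot _ _ _ le_rfl)
  have h1 := Module.Flat.lTensor_preserves_injective_linearMap (M := B l) φ hφ
  have h2 : φ.lTensor (B l) ((1 : B l) ⊗ₜ (Submodule.Quotient.mk 1 : A ⧸ I)) = 0 := by
    rw [LinearMap.lTensor_tmul]
    show (1 : B l) ⊗ₜ[A] ((1 : A) • x) = 0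
    rw [one_smul]
    exact hx l
  have h3 : (1 : B l) ⊗ₜ[A] (Submodule.Quotient.mk 1 : A ⧸ I) = 0 := h1 (h2.trans (map_zero _).symm)
  let ψ : B l ⊗[A] (A ⧸ I) →ₗ[A] B l ⧸ q.asIdeal :=
    TensorProduct.lift (LinearMap.mk₂ A (fun (b : B l) (c : A ⧸ I) =>
      (Ideal.Quotient.mk q.asIdeal b) * (Ideal.Quotient.lift I ((Ideal.Quotient.mk q.asIdeal).comp (algebraMap A (B l)))
        (fun r hr => Ideal.Quotient.eq_zero_iff_mem.2 (by
          have : r ∈ (⟨p, hp.isPrime⟩ : PrimeSpectrum A).asIdeal := hIp hr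
          rw [← hq] at this
          exact this)) c))
      (fun b b' c => by rw [map_add, add_mul])
      (fun r b c => by
        rw [Algebra.smul_def, map_mul, mul_assoc, Algebra.smul_def]
        rfl)
      (fun b c c' => by rw [map_add, mul_add])
      (fun r b c => by
        rw [Algebra.smul_def (A := A ⧸ I), map_mul, Algebra.smul_def, ← mul_assoc,
          mul_comm (Ideal.Quotient.mk q.asIdeal b), mul_assoc]
        rfl))
  have h4 := congrArg ψ h3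
  rw [map_zero] at h4
  rw [TensorProduct.lift.tmul, LinearMap.mk₂_apply] at h4
  erw [Ideal.Quotient.lift_mk] at h4
  rw [RingHom.comp_apply, map_one (algebraMap A (B l)), ← map_mul, one_mul, Ideal.Quotient.eq_zero_iff_mem] at h4
  exact q.isPrime.ne_top ((Ideal.eq_top_iff_one _).2 h4)

end Algebra

/-- A family of flat morphisms of affines, jointly surjective. -/
structure IsCov {κ : Type*} {W : κ → Scheme.{u}} (g : ∀ l, W l ⟶ U) : Prop where
  flat : ∀ l, Flat (g l)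
  surj : ∀ x : U, ∃ l w, g l w = x

variable {κ : Type*} {W : κ → Scheme.{u}} [∀ l, IsAffine (W l)] (g : ∀ l, W l ⟶ U)

theorem IsCov.flat_appTop (hg : IsCov g) (l : κ) :
    letI := (g l).appTop.hom.toAlgebra
    Module.Flat Γ(U, ⊤) Γ(W l, ⊤) := by
  haveI := hg.flat l
  exact (g l).flat_appTop

theorem IsCov.prime_lift (hg : IsCov g) (p : PrimeSpectrum Γ(U, ⊤)) :
    ∃ l, p ∈ Set.range (PrimeSpectrum.comap (g l).appTop.hom) := by
  obtain ⟨l, w, hw⟩ := hg.surj (U.isoSpec.inv p)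
  refine ⟨l, (W l).isoSpec.hom w, ?_⟩
  show Spec.map (g l).appTop ((W l).isoSpec.hom w) = p
  rw [← Scheme.Hom.comp_apply, Scheme.isoSpec_hom_naturality, Scheme.Hom.comp_apply, hw, ← Scheme.Hom.comp_apply,
    Iso.inv_hom_id]
  rfl

/-- A section killed by every restriction to the family is zero. -/
theorem eq_zero_of_rsx (hg : IsCov g) (u : U ⟶ Y) (m : Sx M u)
    (h : ∀ l, rsx M (g l) u (g l ≫ u) rfl m = 0) : m = 0 := by
  letI := fun l => (g l).appTop.hom.toAlgebra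
  haveI := fun l => hg.flat_appTop g l
  refine eq_zero_of_forall (fun l => Γ(W l, ⊤)) (hg.prime_lift g) m fun l => ?_
  obtain ⟨E, hE⟩ := exists_bc M (g l) u (g l ≫ u) rfl
  refine E.injective ?_
  rw [hE, h l, smul_zero, map_zero]

theorem eq_of_rsx (hg : IsCov g) (u : U ⟶ Y) (m m' : Sx M u)
    (h : ∀ l, rsx M (g l) u (g l ≫ u) rfl m = rsx M (g l) u (g l ≫ u) rfl m') : m = m' :=
  sub_eq_zero.1 (eq_zero_of_rsx M g hg u _ fun l => by rw [map_sub, h, sub_self])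

/-- Gluing along a finite flat family of affines. -/
theorem exists_of_agree [Finite κ] (hg : IsCov g) (u : U ⟶ Y) (a : ∀ l, W l ⟶ Y) (ha : ∀ l, g l ≫ u = a l)
    (y : ∀ l, Sx M (a l))
    (hy : ∀ (Z : Scheme.{u}) [IsAffine Z] (k l : κ) (p : Z ⟶ W k) (q : Z ⟶ W l) (h : p ≫ g k = q ≫ g l)
      (z : Z ⟶ Y) (hp : p ≫ a k = z) (hq : q ≫ a l = z), rsx M p (a k) z hp (y k) = rsx M q (a l) z hq (y l)) :
    ∃ m, ∀ l, rsx M (g l) u (a l) (ha l) m = y l := by
  classical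
  haveI : Fintype κ := Fintype.ofFinite κ
  letI algW := fun l => (g l).appTop.hom.toAlgebra
  haveI := fun l => hg.flat_appTop g l
  letI := fun l => Module.compHom (Sx M (a l)) (g l).appTop.hom
  let D : Sx M u →ₗ[Γ(U, ⊤)] ∀ l, Sx M (a l) :=
    LinearMap.pi fun l =>
      { toFun := rsx M (g l) u (a l) (ha l), map_add' := map_add _, map_smul' := fun r m => rsx_smul M _ u _ _ r m }
  suffices hy' : y ∈ LinearMap.range D by
    obtain ⟨m, hm⟩ := hy'
    exact ⟨m, fun l => congrFun hm l⟩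
  rw [← Submodule.Quotient.mk_eq_zero (LinearMap.range D)]
  refine eq_zero_of_forall (A := Γ(U, ⊤)) (fun k => Γ(W k, ⊤)) (hg.prime_lift g) (Q := (∀ l, Sx M (a l)) ⧸ LinearMap.range D) _ fun k => ?_
  obtain ⟨Ek, hEk⟩ := exists_bc M (g k) u (g k ≫ u) rfl
  obtain ⟨m, hm⟩ : ∃ m : Γ(W k, ⊤) ⊗[Γ(U, ⊤)] Sx M u, D.lTensor _ m = (1 : Γ(W k, ⊤)) ⊗ₜ y := by
    have hP : ∀ l, IsAffine (pullback (g k) (g l)) := fun l => inferInstance
    choose E hE using fun l => exists_bc_square M (IsPullback.of_hasPullback (g k) (g l)) (a l)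
      (pullback.snd (g k) (g l) ≫ a l) rfl
    have hk : a k = g k ≫ u := (ha k).symm
    obtain ⟨t, ht⟩ := Ek.surjective (rsx M (𝟙 _) (a k) (g k ≫ u) (by rw [Category.id_comp, hk]) (y k))
    refine ⟨t, (TensorProduct.piRight Γ(U, ⊤) Γ(U, ⊤) Γ(W k, ⊤) fun l => Sx M (a l)).injective ?_⟩
    funext l
    refine (E l).injective ?_
    have hw : pullback.fst (g k) (g l) ≫ g k ≫ u = pullback.snd (g k) (g l) ≫ a l := by
      rw [← ha l, pullback.condition_assoc]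
    have key : ∀ t, E l ((TensorProduct.piRight Γ(U, ⊤) Γ(U, ⊤) Γ(W k, ⊤) (fun l => Sx M (a l))
        (D.lTensor _ t)) l) = rsx M (pullback.fst (g k) (g l)) (g k ≫ u) _ hw (Ek t) := fun t => by
      induction t using TensorProduct.induction_on with
      | zero => simp only [map_zero, Pi.zero_apply]
      | tmul c m =>
        rw [LinearMap.lTensor_tmul, TensorProduct.piRight_apply, TensorProduct.piRightHom_tmul, hEk, rsx_smul, hE]
        refine congrArg _ ?_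
        show rsx M (pullback.snd (g k) (g l)) (a l) _ rfl (rsx M (g l) u (a l) (ha l) m) = _
        have h1 : (pullback.snd (g k) (g l) ≫ g l) ≫ u = pullback.snd (g k) (g l) ≫ a l := by
          rw [Category.assoc, ha l]
        rw [rsx_rsx M _ _ u (a l) _ (ha l) rfl h1, rsx_rsx M _ _ u (g k ≫ u) _ rfl hw
          (by rw [pullback.condition]; exact h1)]
        exact rsx_congr M pullback.condition.symm u _ _ _ _
      | add x x' hx hx' => simp only [map_add, Pi.add_apply, hx, hx']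
    rw [key, ht, TensorProduct.piRight_apply, TensorProduct.piRightHom_tmul, hE, map_one, one_smul,
      rsx_rsx M _ _ (a k) (g k ≫ u) _ _ hw (by rw [Category.assoc, Category.id_comp, hk]; exact hw)]
    refine (rsx_congr M (Category.comp_id _) (a k) _ _ (by rw [hk]; exact hw) _).trans ?_
    exact hy _ k l (pullback.fst (g k) (g l)) (pullback.snd (g k) (g l)) pullback.condition _ _ rfl
  rw [show (Submodule.Quotient.mk y : _ ⧸ LinearMap.range D) = (LinearMap.range D).mkQ y from rfl,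
    ← LinearMap.lTensor_tmul, ← hm, ← LinearMap.comp_apply, ← LinearMap.lTensor_comp,
    LinearMap.range_mkQ_comp, LinearMap.lTensor_zero, LinearMap.zero_apply]

end Groth.L19.QCohFpqc
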