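import Groth.Agent.L19.QCohFpqc.Sx
import Groth.Agent.L19.FpqcCover

/-!
# Refinements of fpqc families over affine opens; evaluation on affine opens
-/

set_option autoImplicit false
set_option linter.style.haveILetI false
set_option linter.unusedSectionVars false
set_option backward.isDefEq.respectTransparency.types false
set_option backward.isDefEq.respectTransparency false

universe u

open CategoryTheory CategoryTheory.Limits AlgebraicGeometry TopologicalSpace Opposite

noncomputable section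

namespace Groth.L19.QCohFpqc

open Groth.L18.Frame (rs ro rs_rs rs_self rs_smul pull pull_rs pull_smul)
open Groth.L27.Assoc (Mo)

section Sheaf

variable {Y : Scheme.{u}} (M : Y.Modules)

theorem eq_of_locally {W : Y.Opens} {s t : Γ(M, W)}
    (h : ∀ x : W, ∃ (O : Y.Opens) (_hx : x.1 ∈ O) (hO : O ≤ W), rs M hO s = rs M hO t) : s = t := by
  choose O hx hO hst using h
  exact TopCat.Sheaf.eq_of_locally_eq' ⟨M.presheaf, M.isSheaf⟩ O W (fun x => homOfLE (hO x))
    (fun x hxW => Opens.mem_iSup.2 ⟨⟨x, hxW⟩, hx ⟨x, hxW⟩⟩) s t hst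

/-- Sections agreeing on affine opens are equal. -/
theorem eq_of_affine {W : Y.Opens} {s t : Γ(M, W)}
    (h : ∀ (U : Y.Opens) (hU : IsAffineOpen U) (hle : U ≤ W), rs M hle s = rs M hle t) : s = t :=
  eq_of_locally M fun x => by
    obtain ⟨_, ⟨U, hU, rfl⟩, hxU, hUW⟩ := Y.isBasis_affineOpens.exists_subset_of_mem_open x.2 W.2
    exact ⟨U, hxU, hUW, h U hU hUW⟩

/-- Sections over an open are global sections over the open subscheme. -/
theorem bijective_ev (W : Y.Opens) :
    Function.Bijective (ev M W.ι (W := W) (fun x _ => x.2)) := by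
  let a := (Scheme.Modules.restrictFunctorIsoPullback W.ι).app M
  let i : Γ(M, W) → Γ(M, W.ι ''ᵁ ⊤) := rs M W.ι_image_top.le
  have hi : Function.Bijective i := Function.bijective_iff_has_inverse.2
    ⟨rs M W.ι_image_top.ge, fun s => (rs_rs M _ _ s).trans (rs_self M _ s),
      fun s => (rs_rs M _ _ s).trans (rs_self M _ s)⟩
  have h : ∀ s, ev M W.ι (W := W) (fun x _ => x.2) s = a.hom.app ⊤ (i s) := fun s => by
    show rs (Mo M W.ι) _ (pull W.ι M W s) = _
    rw [← Groth.L17.BC.PullSec.restrict_pull W.ι M W s, ← Groth.L17.BC.PullSec.app_rs]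
    refine congrArg _ ?_
    exact rs_rs M _ (W.ι.image_mono (fun x _ => x.2)) s
  rw [funext h]
  exact (Function.bijective_iff_has_inverse.2 ⟨fun s => a.inv.app ⊤ s,
    fun s => congr($(congrArg (fun k => Scheme.Modules.Hom.app k ⊤) a.hom_inv_id) s),
    fun s => congr($(congrArg (fun k => Scheme.Modules.Hom.app k ⊤) a.inv_hom_id) s)⟩).comp hi

end Sheaf

variable {ι : Type u} {S : Scheme.{u}} {X : ι → Scheme.{u}} (f : ∀ i, X i ⟶ S)

/-- A finite refinement by affine opens over an affine open of the base. -/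
structure Ref (V : S.Opens) where
  /-- the number of pieces -/
  n : ℕ
  /-- their indices -/
  idx : Fin n → ι
  /-- the pieces -/
  W : ∀ l, (X (idx l)).Opens
  aff : ∀ l, IsAffineOpen (W l)
  le : ∀ l, W l ≤ f (idx l) ⁻¹ᵁ V
  surj : ∀ v ∈ V, ∃ l, ∃ w ∈ W l, f (idx l) w = v

theorem exists_ref (hf : Presieve.ofArrows X f ∈ Scheme.fpqcPrecoverage S) {V : S.Opens} (hV : IsAffineOpen V) :
    Nonempty (Ref f V) := by
  obtain ⟨n, a, W, hW, heq⟩ := Groth.L19.exists_affineOpens_of_mem_fpqc hf hV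
  refine ⟨⟨n, a, W, hW, fun l x hx => ?_, fun v hv => ?_⟩⟩
  · show f (a l) x ∈ (V : Set S)
    rw [← heq]
    exact Set.mem_iUnion.2 ⟨l, x, hx, rfl⟩
  · rw [← SetLike.mem_coe, ← heq] at hv
    obtain ⟨l, w, hw, e⟩ := Set.mem_iUnion.1 hv
    exact ⟨l, w, hw, e⟩

variable {f} {V : S.Opens} (R : Ref f V)

/-- The map of a piece to the affine open. -/
def Ref.g (l : Fin R.n) : (R.W l : Scheme.{u}) ⟶ V := (f (R.idx l)).resLE V (R.W l) (R.le l)

theorem Ref.g_ι (l : Fin R.n) : R.g l ≫ V.ι = (R.W l).ι ≫ f (R.idx l) := Scheme.Hom.resLE_comp_ι _ _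

theorem Ref.isCov (hfl : ∀ i, Flat (f i)) : IsCov R.g := by
  refine ⟨fun l => ?_, fun x => ?_⟩
  · haveI := hfl (R.idx l)
    exact inferInstanceAs (Flat ((f (R.idx l)).resLE V (R.W l) (R.le l)))
  · obtain ⟨l, w, hw, e⟩ := R.surj (V.ι x) x.2
    refine ⟨l, ⟨w, hw⟩, V.ι.isOpenEmbedding.injective ?_⟩
    rw [← Scheme.Hom.comp_apply, R.g_ι, Scheme.Hom.comp_apply]
    exact e

instance Ref.isAffine (l : Fin R.n) : IsAffine (R.W l : Scheme.{u}) := R.aff l

/-- Covers pull back. -/
theorem IsCov.pullback_fst {U Z : Scheme.{u}} {κ : Type*} {W : κ → Scheme.{u}} {g : ∀ l, W l ⟶ U} (hg : IsCov g)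
    (q : Z ⟶ U) : IsCov (fun l => pullback.fst q (g l)) := by
  refine ⟨fun l => ?_, fun z => ?_⟩
  · haveI := hg.flat l
    infer_instance
  · obtain ⟨l, w, hw⟩ := hg.surj (q z)
    obtain ⟨p, hp, -⟩ := Scheme.Pullback.exists_preimage_pullback (f := q) (g := g l) z w hw.symm
    exact ⟨l, p, hp⟩

end Groth.L19.QCohFpqc
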