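import Groth.Agent.L19.QCohFpqc.Hom
import Groth.Agent.L19.QCohFpqc.Local
import Groth.Agent.L19.OmegaSh.Conormal

/-!
# Quasi-coherent modules satisfy fpqc descent for sections and for morphisms
-/

set_option autoImplicit false
set_option linter.style.haveILetI false
set_option linter.unusedSectionVars false
set_option backward.isDefEq.respectTransparency.types false
set_option backward.isDefEq.respectTransparency false

universe u

open CategoryTheory CategoryTheory.Limits AlgebraicGeometry TopologicalSpace Opposite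

noncomputable section

namespace Groth.L19.QCohFpqc

set_option maxHeartbeats 800000

open Groth.L18.Frame (rs ro rs_rs rs_self rs_smul pull pull_rs pull_smul)
open Groth.L27.Assoc (Mo θ R R_comp R_congr R_pull ext_pull)

/-- Restriction of a section coming from an intermediate scheme. -/
theorem rsx_R {Y Y' T T' : Scheme.{u}} (M : Y.Modules) (g : T' ⟶ T) (c : T ⟶ Y') (h : Y' ⟶ Y) (a : T ⟶ Y)
    (hc : c ≫ h = a) (a' : T' ⟶ Y) (w : g ≫ a = a') {V : Y'.Opens} (e : ⊤ ≤ c ⁻¹ᵁ V) (w' : (g ≫ c) ≫ h = a')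
    (e' : ⊤ ≤ (g ≫ c) ⁻¹ᵁ V) (s : Γ(Mo M h, V)) :
    rsx M g a a' w (R M c h a hc (V' := ⊤) e s) = R M (g ≫ c) h a' w' (V' := ⊤) e' s :=
  R_comp M c h a hc g a' w w' e le_top e' s

theorem top_le_comp {Y T T' : Scheme.{u}} (g : T' ⟶ T) (c : T ⟶ Y) {V : Y.Opens} (e : ⊤ ≤ c ⁻¹ᵁ V) :
    (⊤ : T'.Opens) ≤ (g ≫ c) ⁻¹ᵁ V := fun x _ => by
  show (g ≫ c) x ∈ V
  rw [Scheme.Hom.comp_apply]
  exact e (show g x ∈ (⊤ : T.Opens) from trivial)

variable {ι : Type u} {S : Scheme.{u}} {X : ι → Scheme.{u}} {f : ∀ i, X i ⟶ S}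
variable (hf : Presieve.ofArrows X f ∈ Scheme.fpqcPrecoverage S) (N : S.Modules) [Coh.IsQCoh N]

include hf in
/-- Compatible sections of the pullbacks over an affine open come from a unique section. -/
theorem existsUnique_pull {V : S.Opens} (hV : IsAffineOpen V) (s : ∀ i, Γ(Mo N (f i), f i ⁻¹ᵁ V))
    (hs : ∀ (T : Scheme.{u}) [IsAffine T] (i j : ι) (a : T ⟶ X i) (b : T ⟶ X j) (q : T ⟶ S)
      (ha : a ≫ f i = q) (hb : b ≫ f j = q) (e : ⊤ ≤ a ⁻¹ᵁ (f i ⁻¹ᵁ V)) (e' : ⊤ ≤ b ⁻¹ᵁ (f j ⁻¹ᵁ V)),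
      R N a (f i) q ha (V' := ⊤) e (s i) = R N b (f j) q hb (V' := ⊤) e' (s j)) :
    ∃! n : Γ(N, V), ∀ i, pull (f i) N V n = s i := by
  obtain ⟨Rf⟩ := exists_ref f hf hV
  have hfl := Groth.L19.flat_of_mem_fpqc hf
  haveI : IsAffine (V : Scheme.{u}) := hV
  have hcov := Rf.isCov hfl
  have hle : ∀ l, ⊤ ≤ (Rf.W l).ι ⁻¹ᵁ (f (Rf.idx l) ⁻¹ᵁ V) := fun l x _ => Rf.le l x.2
  let a : ∀ l, (Rf.W l : Scheme.{u}) ⟶ S := fun l => (Rf.W l).ι ≫ f (Rf.idx l)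
  have hV0 : (⊤ : (V : Scheme.{u}).Opens) ≤ V.ι ⁻¹ᵁ V := fun x _ => x.2
  let y : ∀ l, Sx N (a l) := fun l => R N (Rf.W l).ι (f (Rf.idx l)) (a l) rfl (V' := ⊤) (hle l) (s (Rf.idx l))
  obtain ⟨m, hm⟩ := exists_of_agree N Rf.g hcov V.ι a Rf.g_ι y fun Z _ k l p q h z hp hq => by
    have wp : (p ≫ (Rf.W k).ι) ≫ f (Rf.idx k) = z := (Category.assoc _ _ _).trans hp
    have wq : (q ≫ (Rf.W l).ι) ≫ f (Rf.idx l) = z := (Category.assoc _ _ _).trans hq
    have ep := top_le_comp p (Rf.W k).ι (hle k)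
    have eq := top_le_comp q (Rf.W l).ι (hle l)
    rw [rsx_R N p (Rf.W k).ι (f (Rf.idx k)) (a k) rfl z hp (hle k) wp ep,
      rsx_R N q (Rf.W l).ι (f (Rf.idx l)) (a l) rfl z hq (hle l) wq eq]
    exact hs Z (Rf.idx k) (Rf.idx l) _ _ z wp wq ep eq
  obtain ⟨n, hn⟩ := (bijective_ev N V).2 m
  refine ⟨n, fun i => ?_, fun n' hn' => (bijective_ev N V).1 ?_⟩
  · refine eq_of_affine (Mo N (f i)) fun U hU hUle => (bijective_ev (Mo N (f i)) U).1 ?_
    refine ((ConcreteCategory.isIso_iff_bijective _).1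
      (inferInstance : IsIso ((θ N U.ι (f i) (U.ι ≫ f i) rfl).app ⊤))).1 ?_
    have eU : ⊤ ≤ U.ι ⁻¹ᵁ (f i ⁻¹ᵁ V) := fun x _ => hUle x.2
    rw [ev_rs (Mo N (f i)) U.ι hUle eU, ev_rs (Mo N (f i)) U.ι hUle eU]
    show R N U.ι (f i) (U.ι ≫ f i) rfl eU (pull (f i) N V n) = R N U.ι (f i) (U.ι ≫ f i) rfl eU (s i)
    let r : (U : Scheme.{u}) ⟶ V := (f i).resLE V U hUle
    have hr : r ≫ V.ι = U.ι ≫ f i := Scheme.Hom.resLE_comp_ι _ _
    haveI : IsAffine (U : Scheme.{u}) := hU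
    have h1 : R N U.ι (f i) (U.ι ≫ f i) rfl eU (pull (f i) N V n) = rsx N r V.ι (U.ι ≫ f i) hr m := by
      rw [← hn, rsx_ev N r V.ι (U.ι ≫ f i) hr hV0 eU n]
      have h := R_pull N U.ι (f i) (U.ι ≫ f i) rfl n (V := f i ⁻¹ᵁ V) (V' := ⊤) le_rfl eU eU
      rwa [rs_self] at h
    rw [h1]
    refine eq_of_rsx N (fun l => pullback.fst r (Rf.g l)) (hcov.pullback_fst r) _ _ _ fun l => ?_
    have hw : (pullback.snd r (Rf.g l) ≫ Rf.g l) ≫ V.ι = pullback.fst r (Rf.g l) ≫ U.ι ≫ f i := by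
      rw [← pullback.condition, Category.assoc, hr]
    rw [rsx_rsx N _ r V.ι _ _ hr rfl (by rw [Category.assoc, hr]),
      rsx_congr N pullback.condition V.ι _ _ hw,
      ← rsx_rsx N _ _ V.ι (a l) _ (Rf.g_ι l) (by rw [← hw, Category.assoc, Rf.g_ι]) hw, hm l]
    have hsnd : pullback.snd r (Rf.g l) ≫ a l = pullback.fst r (Rf.g l) ≫ U.ι ≫ f i := by
      rw [← hw, Category.assoc, Rf.g_ι]
    have w4 : (pullback.snd r (Rf.g l) ≫ (Rf.W l).ι) ≫ f (Rf.idx l) = pullback.fst r (Rf.g l) ≫ U.ι ≫ f i :=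
      (Category.assoc _ _ _).trans hsnd
    have w5 : (pullback.fst r (Rf.g l) ≫ U.ι) ≫ f i = pullback.fst r (Rf.g l) ≫ U.ι ≫ f i := Category.assoc _ _ _
    have e4 := top_le_comp (pullback.snd r (Rf.g l)) (Rf.W l).ι (hle l)
    have e5 := top_le_comp (pullback.fst r (Rf.g l)) U.ι eU
    have h4 := rsx_R N (pullback.snd r (Rf.g l)) (Rf.W l).ι (f (Rf.idx l)) (a l) rfl _ hsnd (hle l) w4 e4
      (s (Rf.idx l))
    have h5 := rsx_R N (pullback.fst r (Rf.g l)) U.ι (f i) (U.ι ≫ f i) rfl _ rfl eU w5 e5 (s i)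
    exact h4.trans ((hs _ i (Rf.idx l) _ _ _ w5 w4 e5 e4).symm.trans h5.symm)
  · rw [hn]
    refine eq_of_rsx N Rf.g hcov V.ι _ _ fun l => ?_
    have ea : (⊤ : (Rf.W l : Scheme.{u}).Opens) ≤ a l ⁻¹ᵁ V := hle l
    have h2 : rsx N (Rf.g l) V.ι (a l) (Rf.g_ι l) (ev N V.ι hV0 n') = y l := by
      rw [rsx_ev N (Rf.g l) V.ι (a l) (Rf.g_ι l) hV0 ea n']
      show _ = R N (Rf.W l).ι (f (Rf.idx l)) (a l) rfl (hle l) (s (Rf.idx l))
      rw [← hn' (Rf.idx l)]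
      have h := R_pull N (Rf.W l).ι (f (Rf.idx l)) (a l) rfl n' (V := f (Rf.idx l) ⁻¹ᵁ V) (V' := ⊤) le_rfl (hle l) ea
      rw [rs_self] at h
      exact h.symm
    have h3 := h2.trans (hm l).symm
    have conv : ∀ z z' : Sx N V.ι, rsx N (Rf.g l) V.ι (a l) (Rf.g_ι l) z = rsx N (Rf.g l) V.ι (a l) (Rf.g_ι l) z' →
        rsx N (Rf.g l) V.ι (Rf.g l ≫ V.ι) rfl z = rsx N (Rf.g l) V.ι (Rf.g l ≫ V.ι) rfl z' := by
      have key : ∀ (b : (Rf.W l : Scheme.{u}) ⟶ S) (hb : Rf.g l ≫ V.ι = b) (z z' : Sx N V.ι),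
          rsx N (Rf.g l) V.ι b hb z = rsx N (Rf.g l) V.ι b hb z' →
          rsx N (Rf.g l) V.ι (Rf.g l ≫ V.ι) rfl z = rsx N (Rf.g l) V.ι (Rf.g l ≫ V.ι) rfl z' := by
        intro b hb z z' h; subst hb; exact h
      exact key (a l) (Rf.g_ι l)
    exact conv _ _ h3

include hf in
theorem eq_of_pull {V : S.Opens} (hV : IsAffineOpen V) (n n' : Γ(N, V))
    (h : ∀ i, pull (f i) N V n = pull (f i) N V n') : n = n' := by
  refine (existsUnique_pull hf N hV (fun i => pull (f i) N V n') fun T _ i j a b q ha hb e e' => ?_).unique h fun _ => rfl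
  have e1 : ⊤ ≤ q ⁻¹ᵁ V := by rw [← ha]; exact e
  have h1 := R_pull N a (f i) q ha n' (V := f i ⁻¹ᵁ V) (V' := ⊤) le_rfl e e1
  have h2 := R_pull N b (f j) q hb n' (V := f j ⁻¹ᵁ V) (V' := ⊤) le_rfl e' e1
  rw [rs_self] at h1 h2
  exact h1.trans h2.symm

theorem pull_add {Y Y' : Scheme.{u}} (g : Y' ⟶ Y) (M : Y.Modules) (V : Y.Opens) (s t : Γ(M, V)) :
    pull g M V (s + t) = pull g M V s + pull g M V t :=
  map_add (((Scheme.Modules.pullbackPushforwardAdjunction g).unit.app M).app V).hom s t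

include hf in
/-- Morphisms of quasi-coherent modules descend along fpqc families. -/
theorem bijective_toDescentData_map (M : S.Modules) :
    Function.Bijective ((Desc.modPF.{u}.toDescentData f).map : (M ⟶ N) → _) := by
  have hnat : ∀ (φ : M ⟶ N) (i : ι) (V : S.Opens) (m : Γ(M, V)),
      ((Scheme.Modules.pullback (f i)).map φ).app (f i ⁻¹ᵁ V) (pull (f i) M V m) = pull (f i) N V (φ.app V m) :=
    fun φ i V m => congr($(congrArg (fun ψ => Scheme.Modules.Hom.app ψ V)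
      ((Scheme.Modules.pullbackPushforwardAdjunction (f i)).unit.naturality φ)) m).symm
  refine ⟨fun φ φ' h => Scheme.Modules.hom_ext _ _ fun O => ?_, fun η => ?_⟩
  · ext m
    refine eq_of_affine N fun V hV hle => eq_of_pull hf N hV _ _ fun i => ?_
    rw [← Groth.L17.BC.PullSec.app_rs, ← Groth.L17.BC.PullSec.app_rs, ← hnat, ← hnat]
    have e : (Scheme.Modules.pullback (f i)).map φ = (Scheme.Modules.pullback (f i)).map φ' :=
      congrArg (fun θ => Pseudofunctor.DescentData.Hom.hom θ i) h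
    rw [e]
  let ηi : ∀ i, Mo M (f i) ⟶ Mo N (f i) := fun i => η.hom i
  have hex : ∀ (V : S.affineOpens) (m : Γ(M, V.1)), ∃! n : Γ(N, V.1),
      ∀ i, pull (f i) N V.1 n = (ηi i).app (f i ⁻¹ᵁ V.1) (pull (f i) M V.1 m) := by
    intro V m
    refine existsUnique_pull hf N V.2 _ fun T _ i j a b q ha hb e e' => ?_
    refine R_tr_canonical N a b (ha.trans hb.symm) q ha hb e e' _ _ ?_
    exact tr_ev_hom η a b (ha.trans hb.symm) e e' _ _ (tr_ev_canonical M a b (ha.trans hb.symm) e e' m)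
  choose ψ hψ hu using hex
  obtain ⟨α, hα⟩ := Groth.L19.OmegaSh.exists_hom_of_basis (i := 𝟙 S) (N := N) (fun _ => True)
    (fun x O hx => by
      obtain ⟨_, ⟨U, hU, rfl⟩, hxU, hUO⟩ := S.isBasis_affineOpens.exists_subset_of_mem_open hx O.2
      exact ⟨⟨U, hU⟩, trivial, hxU, hUO⟩)
    (fun V _ m => ψ V m)
    (fun V _ s t => (hu V (s + t) (ψ V s + ψ V t) fun i => by
      rw [pull_add, pull_add, map_add, ← hψ V s i, ← hψ V t i]).symm)
    (fun V _ r s => (hu V (r • s) (r • ψ V s) fun i => by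
      rw [pull_smul, pull_smul, Scheme.Modules.Hom.app_smul, ← hψ V s i]).symm)
    (fun V V' _ _ h s => (hu V' (rs M h s) (rs N h (ψ V s)) fun i => by
      rw [← pull_rs (f i) N h, ← pull_rs (f i) M h, Groth.L17.BC.PullSec.app_rs, hψ V s i]).symm)
  let φ : M ⟶ N := α ≫ (Scheme.Modules.pushforwardId S).hom.app N
  have hφ : ∀ (V : S.affineOpens) (m : Γ(M, V.1)), φ.app V.1 m = ψ V m := fun V m => hα V trivial m
  refine ⟨φ, Pseudofunctor.DescentData.hom_ext fun i => ?_⟩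
  show (Scheme.Modules.pullback (f i)).map φ = ηi i
  refine ext_pull (f i) fun O m => ?_
  rw [hnat]
  refine eq_of_locally (Mo N (f i)) fun x => ?_
  obtain ⟨_, ⟨V, hV, rfl⟩, hxV, hVO⟩ := S.isBasis_affineOpens.exists_subset_of_mem_open (x.2 : f i x.1 ∈ O) O.2
  refine ⟨f i ⁻¹ᵁ V, hxV, (f i).preimage_mono hVO, ?_⟩
  rw [pull_rs (f i) N hVO, ← Groth.L17.BC.PullSec.app_rs φ hVO, hφ ⟨V, hV⟩, hψ ⟨V, hV⟩ _ i,
    ← Groth.L17.BC.PullSec.app_rs (ηi i) ((f i).preimage_mono hVO), pull_rs (f i) M hVO]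

end Groth.L19.QCohFpqc
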