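import Groth.Agent.L19.QCohFpqc.Hom
import Groth.Agent.L19.QCohFpqc.Local
import Mathlib.LinearAlgebra.TensorProduct.Pi
import Mathlib.RingTheory.Flat.Equalizer

/-!
# Descent data on affine atlases: values and flat base change
-/

set_option autoImplicit false
set_option linter.style.haveILetI false
set_option linter.unusedSectionVars false
set_option backward.isDefEq.respectTransparency.types false
set_option backward.isDefEq.respectTransparency false

universe u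

open CategoryTheory CategoryTheory.Limits AlgebraicGeometry TopologicalSpace Opposite
open scoped TensorProduct

noncomputable section

set_option maxHeartbeats 400000

namespace Groth.L19.QCohFpqc

variable {ι : Type u} {S : Scheme.{u}} {X : ι → Scheme.{u}} {f : ∀ i, X i ⟶ S}

variable (f) in
/-- A finite flat affine cover of `B` with lifts to the family. -/
structure Atlas {B : Scheme.{u}} (b : B ⟶ S) where
  /-- the number of pieces -/
  n : ℕ
  /-- their indices -/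
  idx : Fin n → ι
  /-- the pieces -/
  P : Fin n → Scheme.{u}
  aff : ∀ l, IsAffine (P l)
  /-- the covering maps -/
  g : ∀ l, P l ⟶ B
  /-- the lifts -/
  c : ∀ l, P l ⟶ X (idx l)
  w : ∀ l, g l ≫ b = c l ≫ f (idx l)
  cov : IsCov g

namespace Atlas

variable {B : Scheme.{u}} {b : B ⟶ S} (A : Atlas f b)

instance (l : Fin A.n) : IsAffine (A.P l) := A.aff l

theorem comp_eq {Z : Scheme.{u}} {k l : Fin A.n} {p : Z ⟶ A.P k} {q : Z ⟶ A.P l} (h : p ≫ A.g k = q ≫ A.g l) :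
    (p ≫ A.c k) ≫ f (A.idx k) = (q ≫ A.c l) ≫ f (A.idx l) := by
  rw [Category.assoc, Category.assoc, ← A.w k, ← A.w l, reassoc_of% h]

variable {T : Scheme.{u}} [IsAffine B] [IsAffine T]

/-- The pulled back atlas. -/
def pb (t : T ⟶ B) (b' : T ⟶ S) (h : t ≫ b = b') : Atlas f b' where
  n := A.n
  idx := A.idx
  P l := pullback t (A.g l)
  aff l := inferInstance
  g l := pullback.fst t (A.g l)
  c l := pullback.snd t (A.g l) ≫ A.c l
  w l := by rw [← h, pullback.condition_assoc, A.w l, Category.assoc]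
  cov := A.cov.pullback_fst t

variable (D : Desc.modPF.{u}.DescentData f)

/-- Families of sections on the pieces. -/
abbrev Fam : Type u := ∀ l, Sx (ob D (A.idx l)) (A.c l)

/-- The cocycle condition. -/
def Agree (y : A.Fam D) : Prop :=
  ∀ (Z : Scheme.{u}) [IsAffine Z] (k l : Fin A.n) (p : Z ⟶ A.P k) (q : Z ⟶ A.P l) (h : p ≫ A.g k = q ≫ A.g l),
    tr D (p ≫ A.c k) (q ≫ A.c l) (A.comp_eq h) (rsx (ob D _) p (A.c k) _ rfl (y k)) =
      rsx (ob D _) q (A.c l) _ rfl (y l)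

variable {A D}

theorem Agree.apply {y : A.Fam D} (hy : A.Agree D y) {Z : Scheme.{u}} [IsAffine Z] {k l : Fin A.n}
    (p : Z ⟶ A.P k) (q : Z ⟶ A.P l) (h : p ≫ A.g k = q ≫ A.g l) (a : Z ⟶ X (A.idx k)) (a' : Z ⟶ X (A.idx l))
    (ha : p ≫ A.c k = a) (ha' : q ≫ A.c l = a') (h' : a ≫ f (A.idx k) = a' ≫ f (A.idx l)) :
    tr D a a' h' (rsx (ob D _) p (A.c k) a ha (y k)) = rsx (ob D _) q (A.c l) a' ha' (y l) := by
  subst ha ha'
  exact hy Z k l p q h

theorem agree_zero : A.Agree D 0 := fun Z _ k l p q e => by simp only [Pi.zero_apply, map_zero]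

theorem Agree.add {y y' : A.Fam D} (hy : A.Agree D y) (hy' : A.Agree D y') : A.Agree D (y + y') :=
  fun Z _ k l p q e => by simp only [Pi.add_apply, map_add, hy Z k l p q e, hy' Z k l p q e]

variable (A D)

/-- `x` is the value at the lift `a` of the family `y`. -/
def IsVal (y : A.Fam D) {i : ι} (a : T ⟶ X i) (t : T ⟶ B) (x : Sx (ob D i) a) : Prop :=
  ∀ (Z : Scheme.{u}) [IsAffine Z] (l : Fin A.n) (p : Z ⟶ T) (q : Z ⟶ A.P l) (_ : p ≫ t = q ≫ A.g l)
    (a₁ : Z ⟶ X i) (a₂ : Z ⟶ X (A.idx l)) (ha₁ : p ≫ a = a₁) (ha₂ : q ≫ A.c l = a₂)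
    (h' : a₁ ≫ f i = a₂ ≫ f (A.idx l)),
    tr D a₁ a₂ h' (rsx (ob D i) p a a₁ ha₁ x) = rsx (ob D _) q (A.c l) a₂ ha₂ (y l)

variable {A D}

theorem IsVal.rsx {y : A.Fam D} {i : ι} {a : T ⟶ X i} {t : T ⟶ B} {x : Sx (ob D i) a} (hx : A.IsVal D y a t x)
    {T' : Scheme.{u}} [IsAffine T'] (φ : T' ⟶ T) (a' : T' ⟶ X i) (t' : T' ⟶ B) (wa : φ ≫ a = a')
    (wt : φ ≫ t = t') : A.IsVal D y a' t' (rsx (ob D i) φ a a' wa x) := by
  intro Z _ l p q e a₁ a₂ ha₁ ha₂ h'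
  rw [rsx_rsx (ob D i) p φ a a' a₁ wa ha₁ (by rw [Category.assoc, wa, ha₁])]
  exact hx Z l _ q (by rw [Category.assoc, wt, e]) _ _ _ ha₂ h'

variable [∀ i, Coh.IsQCoh (ob D i)]

theorem IsVal.unique {y : A.Fam D} {i : ι} {a : T ⟶ X i} {t : T ⟶ B} (h : a ≫ f i = t ≫ b)
    {x x' : Sx (ob D i) a} (hx : A.IsVal D y a t x) (hx' : A.IsVal D y a t x') : x = x' := by
  refine eq_of_rsx (ob D i) (fun l => pullback.fst t (A.g l)) (A.cov.pullback_fst t) a x x' fun l => ?_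
  have h' : (pullback.fst t (A.g l) ≫ a) ≫ f i = (pullback.snd t (A.g l) ≫ A.c l) ≫ f (A.idx l) := by
    rw [Category.assoc, h, pullback.condition_assoc, A.w l, Category.assoc]
  refine (tr_bijective D _ _ h').1 ?_
  rw [hx _ l _ _ pullback.condition _ _ rfl rfl h', hx' _ l _ _ pullback.condition _ _ rfl rfl h']

/-- A cocycle has a value at every lift. -/
theorem exists_val {y : A.Fam D} (hy : A.Agree D y) {i : ι} (a : T ⟶ X i) (t : T ⟶ B) (h : a ≫ f i = t ≫ b) :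
    ∃ x, A.IsVal D y a t x := by
  have hl : ∀ l, (pullback.snd t (A.g l) ≫ A.c l) ≫ f (A.idx l) = (pullback.fst t (A.g l) ≫ a) ≫ f i := fun l => by
    rw [Category.assoc, Category.assoc, h, pullback.condition_assoc, A.w l]
  obtain ⟨x, hx⟩ := exists_of_agree (ob D i) (fun l => pullback.fst t (A.g l)) (A.cov.pullback_fst t) a
    (fun l => pullback.fst t (A.g l) ≫ a) (fun _ => rfl)
    (fun l => tr D _ _ (hl l) (QCohFpqc.rsx (ob D _) (pullback.snd t (A.g l)) (A.c l) _ rfl (y l)))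
    fun Z _ k l p q e z hp hq => by
      have hk : ((p ≫ pullback.snd t (A.g k)) ≫ A.c k) ≫ f (A.idx k) = z ≫ f i := by
        rw [← hp, Category.assoc, Category.assoc, Category.assoc]
        exact (congrArg (p ≫ ·) ((Category.assoc _ _ _).symm.trans (hl k))).trans (by simp only [Category.assoc])
      have hl' : ((q ≫ pullback.snd t (A.g l)) ≫ A.c l) ≫ f (A.idx l) = z ≫ f i := by
        rw [← hq, Category.assoc, Category.assoc, Category.assoc]
        exact (congrArg (q ≫ ·) ((Category.assoc _ _ _).symm.trans (hl l))).trans (by simp only [Category.assoc])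
      rw [← tr_rsx D p _ _ (hl k) _ z (Category.assoc _ _ _).symm hp hk,
        ← tr_rsx D q _ _ (hl l) _ z (Category.assoc _ _ _).symm hq hl',
        rsx_rsx (ob D _) p (pullback.snd t (A.g k)) (A.c k) _ _ rfl _ rfl,
        rsx_rsx (ob D _) q (pullback.snd t (A.g l)) (A.c l) _ _ rfl _ rfl,
        ← tr_tr D _ _ _ (hk.trans hl'.symm) hl']
      refine congrArg _ (hy.apply _ _ ?_ _ _ rfl rfl (hk.trans hl'.symm))
      rw [Category.assoc, Category.assoc, ← pullback.condition, ← pullback.condition, reassoc_of% e]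
  refine ⟨x, fun Z _ l p q e a₁ a₂ ha₁ ha₂ h' => ?_⟩
  let w : Z ⟶ pullback t (A.g l) := pullback.lift p q e
  have hw₁ : (w ≫ pullback.fst t (A.g l)) ≫ a = a₁ := by rw [pullback.lift_fst]; exact ha₁
  have hw₂ : (w ≫ pullback.snd t (A.g l)) ≫ A.c l = a₂ := by rw [pullback.lift_snd]; exact ha₂
  rw [rsx_congr (ob D i) (pullback.lift_fst p q e).symm a a₁ ha₁ hw₁,
    ← rsx_rsx (ob D i) w _ a _ a₁ rfl ((Category.assoc _ _ _).symm.trans hw₁) hw₁, hx l,
    ← tr_rsx D w _ _ (hl l) a₂ a₁ ((Category.assoc _ _ _).symm.trans hw₂) ((Category.assoc _ _ _).symm.trans hw₁) h'.symm,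
    tr_tr, tr_self, rsx_rsx (ob D _) w _ (A.c l) _ a₂ rfl _ hw₂]
  exact rsx_congr (ob D _) (pullback.lift_snd p q e) _ _ _ _ _

variable (A D) in
/-- The action of `Γ(B)` on the sections over a piece. -/
@[reducible] def modPiece (l : Fin A.n) : Module Γ(B, ⊤) (Sx (ob D (A.idx l)) (A.c l)) :=
  Module.compHom _ (A.g l).appTop.hom

variable (A) in
/-- The lift of an overlap through the second piece. -/
abbrev ov (kl : Fin A.n × Fin A.n) : pullback (A.g kl.1) (A.g kl.2) ⟶ X (A.idx kl.2) :=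
  pullback.snd _ _ ≫ A.c kl.2

variable (A D) in
/-- The action of `Γ(B)` on the sections over an overlap. -/
@[reducible] def modPair (kl : Fin A.n × Fin A.n) : Module Γ(B, ⊤) (Sx (ob D (A.idx kl.2)) (A.ov kl)) :=
  Module.compHom _ (pullback.snd (A.g kl.1) (A.g kl.2) ≫ A.g kl.2).appTop.hom

theorem ov_eq (kl : Fin A.n × Fin A.n) :
    (pullback.fst (A.g kl.1) (A.g kl.2) ≫ A.c kl.1) ≫ f (A.idx kl.1) = A.ov kl ≫ f (A.idx kl.2) :=
  A.comp_eq pullback.condition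

variable (A D) in
/-- The differences on overlaps. -/
def diff : A.Fam D →+ ∀ kl : Fin A.n × Fin A.n, Sx (ob D (A.idx kl.2)) (A.ov kl) :=
  AddMonoidHom.mk' (fun y kl =>
    tr D _ _ (ov_eq kl) (QCohFpqc.rsx (ob D _) (pullback.fst _ _) (A.c kl.1) _ rfl (y kl.1)) -
      QCohFpqc.rsx (ob D _) (pullback.snd _ _) (A.c kl.2) (A.ov kl) rfl (y kl.2))
    fun y y' => funext fun kl => by
      simp only [Pi.add_apply, map_add]
      abel

theorem diff_smul (r : Γ(B, ⊤)) (y : A.Fam D) :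
    letI := A.modPiece D
    letI := A.modPair D
    A.diff D (r • y) = r • A.diff D y := by
  refine funext fun kl => ?_
  show tr D _ _ _ (QCohFpqc.rsx _ _ _ _ _ ((A.g kl.1).appTop r • y kl.1)) -
      QCohFpqc.rsx _ _ _ _ _ ((A.g kl.2).appTop r • y kl.2) =
    (pullback.snd (A.g kl.1) (A.g kl.2) ≫ A.g kl.2).appTop r •
      (tr D _ _ (ov_eq kl) (QCohFpqc.rsx (ob D _) (pullback.fst _ _) (A.c kl.1) _ rfl (y kl.1)) -
        QCohFpqc.rsx (ob D _) (pullback.snd _ _) (A.c kl.2) (A.ov kl) rfl (y kl.2))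
  rw [rsx_smul, rsx_smul, tr_smul, smul_sub]
  congr 2
  rw [← CommRingCat.comp_apply, ← Scheme.Hom.comp_appTop, pullback.condition]

theorem agree_iff_diff (y : A.Fam D) : A.Agree D y ↔ A.diff D y = 0 := by
  refine ⟨fun hy => funext fun kl => sub_eq_zero.2 (hy.apply _ _ pullback.condition _ _ rfl rfl (ov_eq kl)),
    fun hy Z _ k l p q e => ?_⟩
  have h0 : tr D _ _ (ov_eq (k, l)) (QCohFpqc.rsx (ob D _) (pullback.fst _ _) (A.c k) _ rfl (y k)) =
      QCohFpqc.rsx (ob D _) (pullback.snd _ _) (A.c l) (A.ov (k, l)) rfl (y l) :=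
    sub_eq_zero.1 (congrFun hy (k, l))
  let w : Z ⟶ pullback (A.g k) (A.g l) := pullback.lift p q e
  have hw₁ : (w ≫ pullback.fst _ _) ≫ A.c k = p ≫ A.c k := by rw [pullback.lift_fst]
  have hw₂ : (w ≫ pullback.snd _ _) ≫ A.c l = q ≫ A.c l := by rw [pullback.lift_snd]
  have h1 := congrArg (QCohFpqc.rsx (ob D (A.idx l)) w (A.ov (k, l)) (q ≫ A.c l)
    ((Category.assoc _ _ _).symm.trans hw₂)) h0
  rw [← tr_rsx D w _ _ (ov_eq (k, l)) (p ≫ A.c k) (q ≫ A.c l) ((Category.assoc _ _ _).symm.trans hw₁) _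
    (A.comp_eq e), rsx_rsx (ob D _) w _ (A.c k) _ _ rfl _ hw₁, rsx_rsx (ob D _) w _ (A.c l) _ _ rfl _ hw₂] at h1
  rw [rsx_congr (ob D _) (pullback.lift_fst p q e).symm (A.c k) _ rfl hw₁,
    rsx_congr (ob D _) (pullback.lift_snd p q e).symm (A.c l) _ rfl hw₂]
  exact h1

variable (A) in
/-- The pieces of the pulled back atlas. -/
abbrev c' (t : T ⟶ B) (l : Fin A.n) : pullback t (A.g l) ⟶ X (A.idx l) := pullback.snd t (A.g l) ≫ A.c l

omit A in
theorem exists_piBC {κ : Type} [Fintype κ] [DecidableEq κ] (i : κ → ι) {W : κ → Scheme.{u}} [∀ l, IsAffine (W l)]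
    (g : ∀ l, W l ⟶ B) (a : ∀ l, W l ⟶ X (i l)) (t : T ⟶ B) :
    letI := fun l => Module.compHom (Sx (ob D (i l)) (a l)) (g l).appTop.hom
    letI := t.appTop.hom.toAlgebra
    ∃ Θ : Γ(T, ⊤) ⊗[Γ(B, ⊤)] (∀ l, Sx (ob D (i l)) (a l)) ≃+
        ∀ l, Sx (ob D (i l)) (pullback.snd t (g l) ≫ a l),
      ∀ β (y : ∀ l, Sx (ob D (i l)) (a l)) l, Θ (β ⊗ₜ y) l = (pullback.fst t (g l)).appTop β •
        QCohFpqc.rsx (ob D (i l)) (pullback.snd t (g l)) (a l) (pullback.snd t (g l) ≫ a l) rfl (y l) := by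
  letI := fun l => Module.compHom (Sx (ob D (i l)) (a l)) (g l).appTop.hom
  letI := t.appTop.hom.toAlgebra
  choose E hE using fun l => exists_bc_square (ob D (i l)) (IsPullback.of_hasPullback t (g l)) (a l)
    (pullback.snd t (g l) ≫ a l) rfl
  refine ⟨(TensorProduct.piRight Γ(B, ⊤) Γ(B, ⊤) Γ(T, ⊤) fun l => Sx (ob D (i l)) (a l)).toAddEquiv.trans
    (AddEquiv.piCongrRight E), fun β y l => ?_⟩
  refine Eq.trans ?_ (hE l β (y l))
  simp

variable (A) in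
/-- The base change of an overlap. -/
abbrev Q' (t : T ⟶ B) (kl : Fin A.n × Fin A.n) : Scheme.{u} :=
  pullback t (pullback.snd (A.g kl.1) (A.g kl.2) ≫ A.g kl.2)

variable (A) in
/-- The first map from a base changed overlap. -/
def u' (t : T ⟶ B) (kl : Fin A.n × Fin A.n) : A.Q' t kl ⟶ pullback t (A.g kl.1) :=
  pullback.lift (pullback.fst _ _) (pullback.snd _ _ ≫ pullback.fst _ _) (by
    rw [pullback.condition, Category.assoc, pullback.condition])

variable (A) in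
/-- The second map from a base changed overlap. -/
def v' (t : T ⟶ B) (kl : Fin A.n × Fin A.n) : A.Q' t kl ⟶ pullback t (A.g kl.2) :=
  pullback.lift (pullback.fst _ _) (pullback.snd _ _ ≫ pullback.snd _ _) (by
    rw [pullback.condition, Category.assoc])

theorem u'_fst (t : T ⟶ B) (kl : Fin A.n × Fin A.n) :
    A.u' t kl ≫ pullback.fst t (A.g kl.1) = pullback.fst _ _ := pullback.lift_fst _ _ _

theorem u'_snd (t : T ⟶ B) (kl : Fin A.n × Fin A.n) :
    A.u' t kl ≫ pullback.snd t (A.g kl.1) = pullback.snd _ _ ≫ pullback.fst _ _ := pullback.lift_snd _ _ _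

theorem v'_fst (t : T ⟶ B) (kl : Fin A.n × Fin A.n) :
    A.v' t kl ≫ pullback.fst t (A.g kl.2) = pullback.fst _ _ := pullback.lift_fst _ _ _

theorem v'_snd (t : T ⟶ B) (kl : Fin A.n × Fin A.n) :
    A.v' t kl ≫ pullback.snd t (A.g kl.2) = pullback.snd _ _ ≫ pullback.snd _ _ := pullback.lift_snd _ _ _

/-- Differences commute with base change: on pure tensors. -/
theorem diff_baseChange (A : Atlas f b) (t : T ⟶ B) (β : Γ(T, ⊤)) (y : A.Fam D) (kl : Fin A.n × Fin A.n)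
    (a₁ : A.Q' t kl ⟶ X (A.idx kl.1)) (ha₁ : A.u' t kl ≫ A.c' t kl.1 = a₁)
    (ha₂ : A.v' t kl ≫ A.c' t kl.2 = pullback.snd t (pullback.snd (A.g kl.1) (A.g kl.2) ≫ A.g kl.2) ≫ A.ov kl)
    (h' : a₁ ≫ f (A.idx kl.1) =
      (pullback.snd t (pullback.snd (A.g kl.1) (A.g kl.2) ≫ A.g kl.2) ≫ A.ov kl) ≫ f (A.idx kl.2)) :
    (pullback.fst t (pullback.snd (A.g kl.1) (A.g kl.2) ≫ A.g kl.2)).appTop β •
        QCohFpqc.rsx (ob D _) (pullback.snd t (pullback.snd (A.g kl.1) (A.g kl.2) ≫ A.g kl.2)) (A.ov kl) _ rfl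
          (A.diff D y kl) =
      tr D a₁ _ h' (QCohFpqc.rsx (ob D _) (A.u' t kl) (A.c' t kl.1) a₁ ha₁
        ((pullback.fst t (A.g kl.1)).appTop β •
          QCohFpqc.rsx (ob D _) (pullback.snd t (A.g kl.1)) (A.c kl.1) (A.c' t kl.1) rfl (y kl.1))) -
      QCohFpqc.rsx (ob D _) (A.v' t kl) (A.c' t kl.2) _ ha₂
        ((pullback.fst t (A.g kl.2)).appTop β •
          QCohFpqc.rsx (ob D _) (pullback.snd t (A.g kl.2)) (A.c kl.2) (A.c' t kl.2) rfl (y kl.2)) := by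
  have e₁ : (pullback.snd t (pullback.snd (A.g kl.1) (A.g kl.2) ≫ A.g kl.2) ≫
      pullback.fst (A.g kl.1) (A.g kl.2)) ≫ A.c kl.1 = a₁ := by
    rw [← ha₁, ← u'_snd t kl, Category.assoc]
  have e₂ : (A.u' t kl ≫ pullback.snd t (A.g kl.1)) ≫ A.c kl.1 = a₁ := (Category.assoc _ _ _).trans ha₁
  have e₃ : (A.v' t kl ≫ pullback.snd t (A.g kl.2)) ≫ A.c kl.2 =
      pullback.snd t (pullback.snd (A.g kl.1) (A.g kl.2) ≫ A.g kl.2) ≫ A.ov kl :=
    (Category.assoc _ _ _).trans ha₂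
  rw [rsx_smul, rsx_smul, tr_smul, ← CommRingCat.comp_apply, ← Scheme.Hom.comp_appTop, u'_fst,
    ← CommRingCat.comp_apply, ← Scheme.Hom.comp_appTop, v'_fst, ← smul_sub]
  refine congrArg _ ?_
  show QCohFpqc.rsx (ob D _) _ _ _ _ (tr D _ _ (ov_eq kl)
    (QCohFpqc.rsx (ob D _) (pullback.fst _ _) (A.c kl.1) _ rfl (y kl.1)) -
      QCohFpqc.rsx (ob D _) (pullback.snd _ _) (A.c kl.2) (A.ov kl) rfl (y kl.2)) = _
  rw [map_sub, ← tr_rsx D (pullback.snd t _) _ _ (ov_eq kl) a₁ _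
    ((Category.assoc _ _ _).symm.trans e₁) rfl h']
  refine congrArg₂ (· - ·) (congrArg _ ?_) ?_
  · rw [rsx_rsx (ob D _) _ _ (A.c kl.1) _ a₁ rfl _ e₁, rsx_rsx (ob D _) _ _ (A.c kl.1) _ a₁ rfl _ e₂]
    exact rsx_congr (ob D _) (u'_snd t kl).symm _ _ _ _ _
  · rw [rsx_rsx (ob D _) _ _ (A.c kl.2) _ _ rfl _ (Category.assoc _ _ _),
      rsx_rsx (ob D _) _ _ (A.c kl.2) _ _ rfl _ e₃]
    exact rsx_congr (ob D _) (v'_snd t kl).symm _ _ _ _ _

/-- Pure tensors of cocycles are cocycles. -/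
theorem agree_tmul (A : Atlas f b) (t : T ⟶ B) (b' : T ⟶ S) (h : t ≫ b = b') {y : A.Fam D} (hy : A.Agree D y)
    (β : Γ(T, ⊤)) :
    (A.pb t b' h).Agree D fun l => (pullback.fst t (A.g l)).appTop β •
      QCohFpqc.rsx (ob D _) (pullback.snd t (A.g l)) (A.c l) (A.c' t l) rfl (y l) := by
  suffices hs : ∀ (Z : Scheme.{u}) [IsAffine Z] (k l : Fin A.n) (p : Z ⟶ pullback t (A.g k))
      (q : Z ⟶ pullback t (A.g l)) (_ : p ≫ pullback.fst t (A.g k) = q ≫ pullback.fst t (A.g l))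
      (h' : (p ≫ A.c' t k) ≫ f (A.idx k) = (q ≫ A.c' t l) ≫ f (A.idx l)),
      tr D (p ≫ A.c' t k) (q ≫ A.c' t l) h' (QCohFpqc.rsx (ob D _) p (A.c' t k) _ rfl
          ((pullback.fst t (A.g k)).appTop β •
            QCohFpqc.rsx (ob D _) (pullback.snd t (A.g k)) (A.c k) (A.c' t k) rfl (y k))) =
        QCohFpqc.rsx (ob D _) q (A.c' t l) _ rfl ((pullback.fst t (A.g l)).appTop β •
          QCohFpqc.rsx (ob D _) (pullback.snd t (A.g l)) (A.c l) (A.c' t l) rfl (y l)) from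
    fun Z _ k l p q e => hs Z k l p q e _
  intro Z _ k l p q e h'
  have hpq : (p.appTop ((pullback.fst t (A.g k)).appTop β)) = q.appTop ((pullback.fst t (A.g l)).appTop β) := by
    rw [← CommRingCat.comp_apply, ← Scheme.Hom.comp_appTop, e, Scheme.Hom.comp_appTop, CommRingCat.comp_apply]
  rw [rsx_smul, rsx_smul, tr_smul, hpq,
    rsx_rsx (ob D _) p _ (A.c k) _ (p ≫ A.c' t k) rfl _ (Category.assoc _ _ _),
    rsx_rsx (ob D _) q _ (A.c l) _ (q ≫ A.c' t l) rfl _ (Category.assoc _ _ _)]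
  refine congrArg _ (hy.apply (p ≫ pullback.snd t (A.g k)) (q ≫ pullback.snd t (A.g l)) ?_ _ _ _ _ h')
  rw [Category.assoc, Category.assoc, ← pullback.condition, ← pullback.condition, reassoc_of% e]

/-- Cocycles commute with flat base change. -/
theorem exists_baseChange (A : Atlas f b) (t : T ⟶ B) [Flat t] (b' : T ⟶ S) (h : t ≫ b = b')
    {K : Type u} [AddCommGroup K] [Module Γ(B, ⊤) K] (ψ : K →+ A.Fam D)
    (hsmul : ∀ r k l, ψ (r • k) l = (A.g l).appTop r • ψ k l) (hinj : Function.Injective ψ)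
    (hrange : ∀ y, A.Agree D y ↔ ∃ k, ψ k = y) :
    letI := t.appTop.hom.toAlgebra
    ∃ Θ : Γ(T, ⊤) ⊗[Γ(B, ⊤)] K →+ (A.pb t b' h).Fam D,
      (∀ β k l, Θ (β ⊗ₜ k) l = (pullback.fst t (A.g l)).appTop β •
        QCohFpqc.rsx (ob D _) (pullback.snd t (A.g l)) (A.c l) ((A.pb t b' h).c l) rfl (ψ k l)) ∧
      Function.Injective Θ ∧ ∀ y', (A.pb t b' h).Agree D y' ↔ ∃ z, Θ z = y' := by
  classical
  letI := t.appTop.hom.toAlgebra
  letI := A.modPiece D
  letI := A.modPair D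
  haveI : Module.Flat Γ(B, ⊤) Γ(T, ⊤) := t.flat_appTop
  let ψl : K →ₗ[Γ(B, ⊤)] A.Fam D := { ψ with map_smul' := fun r k => funext (hsmul r k) }
  let δ : A.Fam D →ₗ[Γ(B, ⊤)] ∀ kl : Fin A.n × Fin A.n, Sx (ob D (A.idx kl.2)) (A.ov kl) :=
    { A.diff D with map_smul' := fun r y => A.diff_smul r y }
  have hex : Function.Exact ψl δ := fun y => (agree_iff_diff y).symm.trans (hrange y)
  obtain ⟨Θ₁, hΘ₁⟩ := exists_piBC (D := D) A.idx A.g A.c t
  obtain ⟨Θ₂, hΘ₂⟩ := exists_piBC (D := D) (fun kl : Fin A.n × Fin A.n => A.idx kl.2)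
    (fun kl => pullback.snd (A.g kl.1) (A.g kl.2) ≫ A.g kl.2) A.ov t
  have key : ∀ z (kl : Fin A.n × Fin A.n) a₁ (ha₁ : A.u' t kl ≫ A.c' t kl.1 = a₁)
      (ha₂ : A.v' t kl ≫ A.c' t kl.2 = pullback.snd t (pullback.snd (A.g kl.1) (A.g kl.2) ≫ A.g kl.2) ≫ A.ov kl)
      (h' : a₁ ≫ f (A.idx kl.1) =
        (pullback.snd t (pullback.snd (A.g kl.1) (A.g kl.2) ≫ A.g kl.2) ≫ A.ov kl) ≫ f (A.idx kl.2)),
      Θ₂ (δ.lTensor Γ(T, ⊤) z) kl =
        tr D a₁ _ h' (QCohFpqc.rsx (ob D _) (A.u' t kl) (A.c' t kl.1) a₁ ha₁ (Θ₁ z kl.1)) -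
          QCohFpqc.rsx (ob D _) (A.v' t kl) (A.c' t kl.2) _ ha₂ (Θ₁ z kl.2) := by
    intro z kl a₁ ha₁ ha₂ h'
    induction z using TensorProduct.induction_on with
    | zero => simp only [map_zero, Pi.zero_apply, sub_self]
    | tmul β y =>
      rw [LinearMap.lTensor_tmul, hΘ₂, hΘ₁, hΘ₁]
      exact diff_baseChange A t β y kl a₁ ha₁ ha₂ h'
    | add x x' hx hx' =>
      simp only [map_add, Pi.add_apply, hx, hx']
      abel
  let Θ : Γ(T, ⊤) ⊗[Γ(B, ⊤)] K →+ (A.pb t b' h).Fam D :=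
    Θ₁.toAddMonoidHom.comp (ψl.lTensor Γ(T, ⊤)).toAddMonoidHom
  refine ⟨Θ, fun β k l => hΘ₁ β (ψ k) l,
    Θ₁.injective.comp (Module.Flat.lTensor_preserves_injective_linearMap ψl hinj), fun y' => ⟨fun hy' => ?_, ?_⟩⟩
  · obtain ⟨z₁, hz₁⟩ := Θ₁.surjective y'
    subst hz₁
    have hz : δ.lTensor Γ(T, ⊤) z₁ = 0 := by
      refine Θ₂.injective (funext fun kl => ?_)
      have ha₂ : A.v' t kl ≫ A.c' t kl.2 =
          pullback.snd t (pullback.snd (A.g kl.1) (A.g kl.2) ≫ A.g kl.2) ≫ A.ov kl :=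
        (Category.assoc _ _ _).symm.trans
          ((congrArg (· ≫ A.c kl.2) (v'_snd t kl)).trans (Category.assoc _ _ _))
      have hh : A.u' t kl ≫ pullback.fst t (A.g kl.1) = A.v' t kl ≫ pullback.fst t (A.g kl.2) :=
        (u'_fst t kl).trans (v'_fst t kl).symm
      have h' : (A.u' t kl ≫ A.c' t kl.1) ≫ f (A.idx kl.1) =
          (pullback.snd t (pullback.snd (A.g kl.1) (A.g kl.2) ≫ A.g kl.2) ≫ A.ov kl) ≫ f (A.idx kl.2) :=
        ((A.pb t b' h).comp_eq hh).trans (congrArg (· ≫ f (A.idx kl.2)) ha₂)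
      rw [key z₁ kl _ rfl ha₂ h', map_zero, Pi.zero_apply, sub_eq_zero]
      exact hy'.apply (A.u' t kl) (A.v' t kl) hh _ _ rfl ha₂ h'
    obtain ⟨z, hz⟩ := ((Module.Flat.lTensor_exact Γ(T, ⊤) hex) z₁).1 hz
    exact ⟨z, congrArg Θ₁ hz⟩
  · rintro ⟨z, rfl⟩
    induction z using TensorProduct.induction_on with
    | zero => rw [map_zero]; exact agree_zero
    | tmul β κ =>
      rw [show Θ (β ⊗ₜ κ) = _ from funext fun l => hΘ₁ β (ψ κ) l]
      exact agree_tmul A t b' h ((hrange _).2 ⟨κ, rfl⟩) β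
    | add x x' hx hx' => rw [map_add]; exact hx.add hx'

end Atlas

end Groth.L19.QCohFpqc
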