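import Groth.Agent.L19.QCohFpqc.Val
import Groth.Agent.L16.QcqsPush

/-!
# The descended module is quasi-coherent
-/

set_option autoImplicit false
set_option linter.style.haveILetI false
set_option linter.unusedSectionVars false
set_option backward.isDefEq.respectTransparency.types false
set_option backward.isDefEq.respectTransparency false

universe u

open CategoryTheory CategoryTheory.Limits AlgebraicGeometry TopologicalSpace Opposite
open scoped TensorProduct

noncomputable section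

namespace Groth.L19.QCohFpqc

set_option maxHeartbeats 400000

open Groth.L18.Frame (rs ro rs_rs rs_self rs_smul pull pull_rs pull_smul)

variable {ι : Type u} {S : Scheme.{u}} {X : ι → Scheme.{u}} {f : ∀ i, X i ⟶ S}

/-- The atlas of a refinement. -/
def Ref.atlas {V : S.Opens} (R : Ref f V) (hfl : ∀ i, Flat (f i)) : Atlas f V.ι where
  n := R.n
  idx := R.idx
  P l := R.W l
  aff := R.aff
  g := R.g
  c l := (R.W l).ι
  w := R.g_ι
  cov := R.isCov hfl

theorem top_le_ι {Y : Scheme.{u}} (V : Y.Opens) : ⊤ ≤ V.ι ⁻¹ᵁ V := fun x _ => x.2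

theorem ι_bijective {Y : Scheme.{u}} (V : Y.Opens) :
    Function.Bijective (V.ι.appLE V ⊤ (top_le_ι V)) := by
  rw [Scheme.Opens.ι_appLE]
  refine (ConcreteCategory.isIso_iff_bijective _).1 ?_
  have h : V.ι ''ᵁ ⊤ = V := V.ι_image_top
  rw [show (homOfLE (le_of_eq h) : V.ι ''ᵁ ⊤ ⟶ V) = eqToHom h from Subsingleton.elim _ _]
  infer_instance

variable {D : Desc.modPF.{u}.DescentData f} [∀ i, Coh.IsQCoh (ob D i)]
variable (hf : Presieve.ofArrows X f ∈ Scheme.fpqcPrecoverage S)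

/-- Evaluation on an open, as an equivalence. -/
def evEquiv (M : S.Modules) (V : S.Opens) : Γ(M, V) ≃+ Sx M V.ι :=
  AddEquiv.ofBijective (AddMonoidHom.mk' (ev M V.ι (top_le_ι V)) (ev_add M V.ι _)) (bijective_ev M V)

theorem evEquiv_apply (M : S.Modules) (V : S.Opens) (m : Γ(M, V)) : evEquiv M V m = ev M V.ι (top_le_ι V) m := rfl

/-- Flat base change for the descended module. -/
theorem exists_bc_descended {V : S.Opens} [IsAffine (V : Scheme.{u})] (A : Atlas f V.ι) {T : Scheme.{u}} [IsAffine T]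
    (t : T ⟶ V) [Flat t] (b' : T ⟶ S) (h : t ≫ V.ι = b') (e' : ⊤ ≤ b' ⁻¹ᵁ V) :
    letI := t.appTop.hom.toAlgebra
    ∃ Θ : Γ(T, ⊤) ⊗[Γ(V, ⊤)] Sx (descended D) V.ι →+ (A.pb t b' h).Fam D,
      (∀ β z l, Θ (β • z) l = (pullback.fst t (A.g l)).appTop β • Θ z l) ∧
      (∀ β (m : Γ(descended D, V)) l, Θ (β ⊗ₜ evEquiv _ V m) l =
        (pullback.fst t (A.g l)).appTop β • (A.pb t b' h).restr D e' m l) ∧
      Function.Injective Θ ∧ ∀ y', (A.pb t b' h).Agree D y' ↔ ∃ z, Θ z = y' := by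
  letI := t.appTop.hom.toAlgebra
  let ψ : Sx (descended D) V.ι →+ A.Fam D :=
    (A.restr D (top_le_ι V)).comp (evEquiv (descended D) V).symm.toAddMonoidHom
  have hV : V ≤ V.ι.opensRange := V.opensRange_ι.ge
  obtain ⟨Θ, hΘ, hinj, hrange⟩ := Atlas.exists_baseChange A t b' h ψ (fun r k l => by
      obtain ⟨r₀, rfl⟩ := (ι_bijective V).2 r
      obtain ⟨m, rfl⟩ := (evEquiv (descended D) V).surjective k
      rw [evEquiv_apply, ← ev_smul, ← evEquiv_apply, ← evEquiv_apply]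
      show A.restr D (top_le_ι V) ((evEquiv (descended D) V).symm _) l =
        _ • A.restr D (top_le_ι V) ((evEquiv (descended D) V).symm _) l
      rw [AddEquiv.symm_apply_apply, AddEquiv.symm_apply_apply, Atlas.restr_smul])
    ((A.restr_injective (top_le_ι V) hV).comp (evEquiv (descended D) V).symm.injective) fun y => by
      refine (A.agree_iff_restr (top_le_ι V) hV y).trans ⟨fun ⟨m, hm⟩ => ⟨evEquiv _ V m, ?_⟩, fun ⟨k, hk⟩ => ⟨_, hk⟩⟩
      show A.restr D (top_le_ι V) ((evEquiv (descended D) V).symm _) = _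
      rw [AddEquiv.symm_apply_apply, hm]
  refine ⟨Θ, fun β z l => ?_, fun β m l => ?_, hinj, hrange⟩
  · induction z using TensorProduct.induction_on with
    | zero =>
      have h0 : Θ 0 l = (0 : Sx (ob D (A.idx l)) ((A.pb t b' h).c l)) := congrFun (map_zero Θ) l
      rw [smul_zero]
      erw [h0, smul_zero]
    | tmul β' k =>
      rw [TensorProduct.smul_tmul', hΘ, hΘ, smul_eq_mul, map_mul, mul_smul]
    | add z z' hz hz' =>
      have h1 : Θ (z + z') l = (Θ z l + Θ z' l : Sx (ob D (A.idx l)) ((A.pb t b' h).c l)) :=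
        congrFun (map_add Θ z z') l
      have h2 : Θ (β • z + β • z') l = (Θ (β • z) l + Θ (β • z') l : Sx (ob D (A.idx l)) ((A.pb t b' h).c l)) :=
        congrFun (map_add Θ _ _) l
      rw [smul_add]
      erw [h2, h1, smul_add]
      exact congrArg₂ (· + ·) hz hz'
  · rw [hΘ]
    refine congrArg _ ?_
    show QCohFpqc.rsx _ _ _ _ _ (A.restr D (top_le_ι V) ((evEquiv (descended D) V).symm _) l) = _
    rw [AddEquiv.symm_apply_apply]
    exact rsx_ev (ob D _) (pullback.snd t (A.g l)) (A.c l) _ rfl _ ((A.pb t b' h).le_preimage e' l) _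

theorem key_ι {V : S.Opens} (r : Γ(S, V)) (x : Γ(S, V)) :
    (S.homOfLE (S.basicOpen_le r)).appTop (V.ι.appLE V ⊤ (top_le_ι V) x) =
      (S.basicOpen r).ι.appLE (S.basicOpen r) ⊤ (top_le_ι _) (ro (S.basicOpen_le r) x) := by
  refine Eq.trans ?_ (congr($((Scheme.Hom.map_appLE (S.basicOpen r).ι (top_le_ι _)
    (homOfLE (S.basicOpen_le r)).op)) x)).symm
  rw [Scheme.Hom.appTop, Scheme.Hom.app_eq_appLE, ← CommRingCat.comp_apply, Scheme.Hom.appLE_comp_appLE]
  exact appLE_congr' (Scheme.homOfLE_ι _ _) _ _ x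

theorem isLocalization_Γ {V : S.Opens} (hV : IsAffineOpen V) (r : Γ(S, V)) :
    letI := (S.homOfLE (S.basicOpen_le r)).appTop.hom.toAlgebra
    IsLocalization.Away (V.ι.appLE V ⊤ (top_le_ι V) r) Γ(S.basicOpen r, ⊤) := by
  letI := (S.homOfLE (S.basicOpen_le r)).appTop.hom.toAlgebra
  haveI := hV.isLocalization_basicOpen r
  have key := key_ι r
  let σ : Γ(S, V) ≃+* Γ(V, ⊤) := RingEquiv.ofBijective (V.ι.appLE V ⊤ (top_le_ι V)).hom
    (ι_bijective V)
  let σ' : Γ(S, S.basicOpen r) ≃+* Γ(S.basicOpen r, ⊤) :=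
    RingEquiv.ofBijective ((S.basicOpen r).ι.appLE _ ⊤ (top_le_ι _)).hom (ι_bijective _)
  have hσ : ∀ x, algebraMap Γ(V, ⊤) Γ(S.basicOpen r, ⊤) (σ x) =
      σ' (algebraMap Γ(S, V) Γ(S, S.basicOpen r) x) := key
  have hmem : ∀ n : ℕ, σ (r ^ n) = V.ι.appLE V ⊤ (top_le_ι V) r ^ n := fun n => map_pow σ r n
  constructor; constructor
  · rintro ⟨_, n, rfl⟩
    simp only
    rw [← hmem, hσ]
    exact (IsLocalization.map_units _ (⟨_, n, rfl⟩ : Submonoid.powers r)).map σ'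
  · intro z
    obtain ⟨⟨x, ⟨_, n, rfl⟩⟩, hx⟩ := IsLocalization.surj (Submonoid.powers r) (σ'.symm z)
    refine ⟨⟨σ x, ⟨_, n, rfl⟩⟩, ?_⟩
    simp only
    rw [← hmem, hσ, hσ, ← hx, map_mul, RingEquiv.apply_symm_apply]
  · intro x y hxy
    obtain ⟨x, rfl⟩ := σ.surjective x
    obtain ⟨y, rfl⟩ := σ.surjective y
    rw [hσ, hσ] at hxy
    obtain ⟨⟨_, n, rfl⟩, hn⟩ := IsLocalization.exists_of_eq (M := Submonoid.powers r) (σ'.injective hxy)
    refine ⟨⟨_, n, rfl⟩, ?_⟩
    simp only at hn ⊢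
    rw [← hmem, ← map_mul σ, ← map_mul σ, hn]

include hf in
theorem isQCoh_descended : Coh.IsQCoh (descended D) := by
  refine Groth.L16.QcqsPush.isQCoh_of_sections _ fun x => ?_
  obtain ⟨V, hV, hxV, -⟩ := exists_isAffineOpen_mem_and_subset (x := x) (U := ⊤) trivial
  refine ⟨V, hxV, hV, fun r => ?_⟩
  haveI : IsAffine (V : Scheme.{u}) := hV
  haveI : IsAffine (S.basicOpen r : Scheme.{u}) := hV.basicOpen r
  obtain ⟨Rf⟩ := exists_ref f hf hV
  let A := Rf.atlas (Groth.L19.flat_of_mem_fpqc hf)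
  let t := S.homOfLE (S.basicOpen_le r)
  have e' : ⊤ ≤ (S.basicOpen r).ι ⁻¹ᵁ V := fun y _ => S.basicOpen_le r y.2
  obtain ⟨Θ, hsmul, hΘ, hinj, hrange⟩ :=
    exists_bc_descended (D := D) A t (S.basicOpen r).ι (Scheme.homOfLE_ι _ _) e'
  letI := t.appTop.hom.toAlgebra
  haveI hloc := isLocalization_Γ hV r
  let r' := V.ι.appLE V ⊤ (top_le_ι V) r
  haveI : IsLocalizedModule (Submonoid.powers r')
      (TensorProduct.mk Γ(V, ⊤) Γ(S.basicOpen r, ⊤) (Sx (descended D) V.ι) 1) :=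
    (isLocalizedModule_iff_isBaseChange (Submonoid.powers r') Γ(S.basicOpen r, ⊤) _).2
      (TensorProduct.isBaseChange _ _ _)
  let A' := A.pb t (S.basicOpen r).ι (Scheme.homOfLE_ι _ _)
  have hD : S.basicOpen r ≤ (S.basicOpen r).ι.opensRange := (S.basicOpen r).opensRange_ι.ge
  have hres : ∀ m : Γ(descended D, V),
      A'.restr D (top_le_ι _) (rs (descended D) (S.basicOpen_le r) m) = A'.restr D e' m := fun m => funext fun l => by
    rw [Atlas.restr_apply, Atlas.restr_apply, comp_rs]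
    exact ev_rs (ob D _) _ _ _ _ _
  have h1 : ∀ m, Θ ((1 : Γ(S.basicOpen r, ⊤)) ⊗ₜ evEquiv _ V m) = A'.restr D e' m := fun m => funext fun l =>
    (hΘ 1 m l).trans (by rw [map_one, one_smul])
  refine ⟨fun s => ?_, fun m hm => ?_⟩
  · obtain ⟨z, hz⟩ := (hrange _).1 (A'.agree_restr (top_le_ι _) s)
    obtain ⟨⟨k, ⟨_, n, rfl⟩⟩, hk⟩ := IsLocalizedModule.surj (Submonoid.powers r')
      (TensorProduct.mk Γ(V, ⊤) Γ(S.basicOpen r, ⊤) (Sx (descended D) V.ι) 1) z
    obtain ⟨m, rfl⟩ := (evEquiv (descended D) V).surjective k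
    refine ⟨n, m, (A'.restr_injective (top_le_ι _) hD) (funext fun l => ?_)⟩
    have hk' : (algebraMap Γ(V, ⊤) Γ(S.basicOpen r, ⊤) (r' ^ n)) • z =
        (1 : Γ(S.basicOpen r, ⊤)) ⊗ₜ evEquiv _ V m := by
      rw [algebraMap_smul]
      exact hk
    have h2 := congrFun (congrArg Θ hk') l
    rw [hsmul, h1, hz] at h2
    rw [hres, Atlas.restr_smul]
    refine h2.symm.trans ?_
    congr 2
    show t.appTop (r' ^ n) = _
    rw [← map_pow (V.ι.appLE V ⊤ (top_le_ι V)).hom]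
    exact key_ι r (r ^ n)
  · have h0 : (1 : Γ(S.basicOpen r, ⊤)) ⊗ₜ[Γ(V, ⊤)] evEquiv (descended D) V m = 0 := hinj (by
      rw [map_zero, h1, ← hres, hm, map_zero])
    obtain ⟨⟨_, n, rfl⟩, hn⟩ := (IsLocalizedModule.eq_zero_iff (Submonoid.powers r')
      (TensorProduct.mk Γ(V, ⊤) Γ(S.basicOpen r, ⊤) (Sx (descended D) V.ι) 1)).1 h0
    refine ⟨n, (evEquiv (descended D) V).injective ?_⟩
    rw [map_zero, evEquiv_apply, ev_smul, map_pow]
    exact hn

end Groth.L19.QCohFpqc
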