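import Groth.Agent.L19.QCohFpqc.Hom
import Groth.Agent.L19.QCohFpqc.Local
import Mathlib.Topology.Sheaves.SheafCondition.UniqueGluing
import Mathlib.Algebra.Category.ModuleCat.Presheaf
import Mathlib.AlgebraicGeometry.Modules.Sheaf

/-!
# The module of compatible sections of a descent datum
-/

set_option autoImplicit false
set_option linter.style.haveILetI false
set_option linter.unusedSectionVars false
set_option backward.isDefEq.respectTransparency.types false
set_option backward.isDefEq.respectTransparency false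

universe u

open CategoryTheory CategoryTheory.Limits AlgebraicGeometry TopologicalSpace Opposite

noncomputable section

namespace Groth.L19.QCohFpqc

open Groth.L18.Frame (rs ro rs_rs rs_self rs_smul pull pull_rs pull_smul)
open Groth.L27.Assoc (Mo)

/-- Sections over an affine agreeing locally are equal. -/
theorem eq_of_opens {Y T : Scheme.{u}} [IsAffine T] (M : Y.Modules) [Coh.IsQCoh M] (a : T ⟶ Y) (x y : Sx M a)
    (h : ∀ p : T, ∃ U : T.Opens, IsAffineOpen U ∧ p ∈ U ∧
      rsx M U.ι a (U.ι ≫ a) rfl x = rsx M U.ι a (U.ι ≫ a) rfl y) : x = y := by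
  choose U hU hp hx using h
  haveI : ∀ p, IsAffine (U p : Scheme.{u}) := hU
  exact eq_of_rsx M (fun p => (U p).ι) ⟨fun p => inferInstance, fun p => ⟨p, ⟨p, hp p⟩, rfl⟩⟩ a x y hx

theorem appLE_congr' {T Y : Scheme.{u}} {q q' : T ⟶ Y} (h : q = q') {O : Y.Opens} (e : ⊤ ≤ q ⁻¹ᵁ O)
    (e' : ⊤ ≤ q' ⁻¹ᵁ O) (r : Γ(Y, O)) : q.appLE O ⊤ e r = q'.appLE O ⊤ e' r := by
  subst h
  rfl

theorem preimage_congr {T Y : Scheme.{u}} {q q' : T ⟶ Y} (h : q = q') {O : Y.Opens} (e : ⊤ ≤ q ⁻¹ᵁ O) :
    ⊤ ≤ q' ⁻¹ᵁ O := h ▸ e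

variable {ι : Type u} {S : Scheme.{u}} {X : ι → Scheme.{u}} {f : ∀ i, X i ⟶ S}
variable (D : Desc.modPF.{u}.DescentData f)

/-- The direct images of the modules of the datum. -/
abbrev push (i : ι) : S.Modules := (Scheme.Modules.pushforward (f i)).obj (ob D i)

/-- Sections compatible with the transition maps. -/
def Compat (O : S.Opens) (s : ∀ i, Γ(push D i, O)) : Prop :=
  ∀ (T : Scheme.{u}) [IsAffine T] (i j : ι) (a : T ⟶ X i) (b : T ⟶ X j) (h : a ≫ f i = b ≫ f j)
    (e : ⊤ ≤ a ⁻¹ᵁ (f i ⁻¹ᵁ O)) (e' : ⊤ ≤ b ⁻¹ᵁ (f j ⁻¹ᵁ O)),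
    tr D a b h (ev (ob D i) a e (s i)) = ev (ob D j) b e' (s j)

/-- The compatible families. -/
def glob (O : S.Opens) : Submodule Γ(S, O) (∀ i, Γ(push D i, O)) where
  carrier := {s | Compat D O s}
  zero_mem' T _ i j a b h e e' := by
    show tr D a b h (ev (ob D i) a e (0 : Γ(ob D i, f i ⁻¹ᵁ O))) = ev (ob D j) b e' (0 : Γ(ob D j, f j ⁻¹ᵁ O))
    rw [ev_zero, ev_zero, map_zero]
  add_mem' {s s'} hs hs' T _ i j a b h e e' := by
    show tr D a b h (ev (ob D i) a e ((show Γ(ob D i, f i ⁻¹ᵁ O) from s i) + (show Γ(ob D i, f i ⁻¹ᵁ O) from s' i))) =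
      ev (ob D j) b e' ((show Γ(ob D j, f j ⁻¹ᵁ O) from s j) + (show Γ(ob D j, f j ⁻¹ᵁ O) from s' j))
    rw [ev_add, ev_add, map_add]
    exact congrArg₂ (· + ·) (hs T i j a b h e e') (hs' T i j a b h e e')
  smul_mem' r s hs T _ i j a b h e e' := by
    show tr D a b h (ev (ob D i) a e ((f i).app O r • (show Γ(ob D i, f i ⁻¹ᵁ O) from s i))) =
      ev (ob D j) b e' ((f j).app O r • (show Γ(ob D j, f j ⁻¹ᵁ O) from s j))
    rw [ev_smul, ev_smul, tr_smul, hs T i j a b h e e']
    congr 1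
    rw [← CommRingCat.comp_apply, ← CommRingCat.comp_apply, ← Scheme.Hom.comp_appLE, ← Scheme.Hom.comp_appLE]
    exact appLE_congr' h _ _ r

/-- Restriction of compatible families. -/
def globRes {O O' : S.Opens} (h : O' ≤ O) : glob D O →+ glob D O' where
  toFun s := ⟨fun i => rs (push D i) h (s.1 i), fun T _ i j a b hab e e' => by
    show tr D a b hab (ev (ob D i) a e (rs (ob D i) ((f i).preimage_mono h) (s.1 i))) =
      ev (ob D j) b e' (rs (ob D j) ((f j).preimage_mono h) (s.1 j))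
    rw [ev_rs (ob D i) a ((f i).preimage_mono h) (e.trans (a.preimage_mono ((f i).preimage_mono h))),
      ev_rs (ob D j) b ((f j).preimage_mono h) (e'.trans (b.preimage_mono ((f j).preimage_mono h)))]
    exact s.2 T i j a b hab _ _⟩
  map_zero' := Subtype.ext (funext fun i => map_zero _)
  map_add' _ _ := Subtype.ext (funext fun i => map_add _ _ _)

theorem globRes_apply {O O' : S.Opens} (h : O' ≤ O) (s : glob D O) (i : ι) :
    (globRes D h s).1 i = rs (push D i) h (s.1 i) := rfl

theorem globRes_self {O : S.Opens} (h : O ≤ O) (s : glob D O) : globRes D h s = s :=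
  Subtype.ext (funext fun i => rs_self (push D i) h (s.1 i))

theorem globRes_comp {O O' O'' : S.Opens} (h : O' ≤ O) (h' : O'' ≤ O') (h'' : O'' ≤ O) (s : glob D O) :
    globRes D h' (globRes D h s) = globRes D h'' s :=
  Subtype.ext (funext fun i => rs_rs (push D i) h h' (s.1 i))

/-- The presheaf of compatible families. -/
def globPresheaf : (Opens S)ᵒᵖ ⥤ Ab.{u} where
  obj O := AddCommGrpCat.of (glob D O.unop)
  map i := AddCommGrpCat.ofHom (globRes D i.unop.le)
  map_id O := AddCommGrpCat.hom_ext (AddMonoidHom.ext fun s => globRes_self D _ s)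
  map_comp {O O' O''} g g' := AddCommGrpCat.hom_ext (AddMonoidHom.ext fun s =>
    (globRes_comp D g.unop.le g'.unop.le _ s).symm)

variable [∀ i, Coh.IsQCoh (ob D i)]

theorem isSheaf_globPresheaf : TopCat.Presheaf.IsSheaf (X := S.toTopCat) (globPresheaf D) := by
  refine (TopCat.Presheaf.isSheaf_iff_isSheafUniqueGluing _).mpr ?_
  intro κ W sf hsf
  let G : ∀ i, TopCat.Sheaf Ab S.toTopCat := fun i => ⟨(push D i).presheaf, (push D i).isSheaf⟩
  have hex : ∀ i, ∃! t : Γ(push D i, iSup W), ∀ k, rs (push D i) (le_iSup W k) t = (sf k).1 i := fun i =>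
    (G i).existsUnique_gluing' W (iSup W) (fun k => homOfLE (le_iSup W k)) le_rfl (fun k => (sf k).1 i)
      fun k l => congrFun (congrArg Subtype.val (hsf k l)) i
  choose t ht huniq using hex
  refine ⟨⟨t, fun T _ i j a b h e e' => ?_⟩, fun k => Subtype.ext (funext fun i => ht i k), fun m hm => ?_⟩
  · refine eq_of_opens (ob D j) b _ _ fun p => ?_
    obtain ⟨k, hk⟩ := Opens.mem_iSup.1 (show f i (a p) ∈ iSup W from e trivial)
    obtain ⟨U, hU, hpU, hUle⟩ := exists_isAffineOpen_mem_and_subset (x := p) (U := (a ≫ f i) ⁻¹ᵁ W k) hk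
    refine ⟨U, hU, hpU, ?_⟩
    haveI : IsAffine (U : Scheme.{u}) := hU
    have h' : (U.ι ≫ a) ≫ f i = (U.ι ≫ b) ≫ f j := by rw [Category.assoc, Category.assoc, h]
    have ea : ⊤ ≤ (U.ι ≫ a) ⁻¹ᵁ (f i ⁻¹ᵁ W k) := fun x _ => hUle x.2
    have eb : ⊤ ≤ (U.ι ≫ b) ⁻¹ᵁ (f j ⁻¹ᵁ W k) := preimage_congr h' ea
    have ea' := ea.trans ((U.ι ≫ a).preimage_mono ((f i).preimage_mono (le_iSup W k)))
    have eb' := eb.trans ((U.ι ≫ b).preimage_mono ((f j).preimage_mono (le_iSup W k)))
    rw [← tr_rsx D U.ι a b h _ _ rfl rfl h', rsx_ev (ob D i) U.ι a _ rfl e ea', rsx_ev (ob D j) U.ι b _ rfl e' eb',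
      ← ev_rs (ob D i) (U.ι ≫ a) ((f i).preimage_mono (le_iSup W k)) ea' ea,
      ← ev_rs (ob D j) (U.ι ≫ b) ((f j).preimage_mono (le_iSup W k)) eb' eb]
    rw [show rs (ob D i) ((f i).preimage_mono (le_iSup W k)) (t i) = (sf k).1 i from ht i k,
      show rs (ob D j) ((f j).preimage_mono (le_iSup W k)) (t j) = (sf k).1 j from ht j k]
    exact (sf k).2 _ i j _ _ h' ea eb
  · exact Subtype.ext (funext fun i => huniq i (m.1 i) fun k => congrFun (congrArg Subtype.val (hm k)) i)

instance (O : (Opens S)ᵒᵖ) : Module (S.ringCatSheaf.obj.obj O) ((globPresheaf D).obj O) :=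
  inferInstanceAs (Module Γ(S, O.unop) (glob D O.unop))

/-- The descended module. -/
def descended : S.Modules where
  val := PresheafOfModules.ofPresheaf (globPresheaf D) fun {O O'} i r s => Subtype.ext (funext fun l =>
    rs_smul (push D l) i.unop.le r (s.1 l))
  isSheaf := isSheaf_globPresheaf D

/-- The component of a section. -/
def comp {O : S.Opens} (m : Γ(descended D, O)) (i : ι) : Γ(ob D i, f i ⁻¹ᵁ O) := (show glob D O from m).1 i

theorem comp_compat {O : S.Opens} (m : Γ(descended D, O)) : Compat D O fun i => comp D m i :=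
  (show glob D O from m).2

theorem comp_add {O : S.Opens} (m m' : Γ(descended D, O)) (i : ι) :
    comp D (m + m') i = comp D m i + comp D m' i := rfl

theorem comp_smul {O : S.Opens} (r : Γ(S, O)) (m : Γ(descended D, O)) (i : ι) :
    comp D (r • m) i = (f i).app O r • comp D m i := rfl

theorem comp_rs {O O' : S.Opens} (h : O' ≤ O) (m : Γ(descended D, O)) (i : ι) :
    comp D (rs (descended D) h m) i = rs (ob D i) ((f i).preimage_mono h) (comp D m i) := rfl

theorem comp_ext {O : S.Opens} {m m' : Γ(descended D, O)} (h : ∀ i, comp D m i = comp D m' i) : m = m' :=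
  Subtype.ext (funext h)

/-- The projections. -/
def proj (i : ι) : descended D ⟶ push D i :=
  ⟨PresheafOfModules.homMk
    { app := fun O => AddCommGrpCat.ofHom (AddMonoidHom.mk' (fun m => (show glob D O.unop from m).1 i) fun _ _ => rfl)
      naturality := fun O O' h => rfl }
    fun O r m => rfl⟩

/-- The comparison maps. -/
def φ (i : ι) : Mo (descended D) (f i) ⟶ ob D i :=
  ((Scheme.Modules.pullbackPushforwardAdjunction (f i)).homEquiv _ _).symm (proj D i)

theorem φ_pull (i : ι) (O : S.Opens) (m : Γ(descended D, O)) :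
    (φ D i).app (f i ⁻¹ᵁ O) (pull (f i) (descended D) O m) = comp D m i := by
  have h := ((Scheme.Modules.pullbackPushforwardAdjunction (f i)).homEquiv_unit (descended D) (ob D i) (φ D i))
  rw [φ, Equiv.apply_symm_apply] at h
  exact congr($(congrArg (fun ψ => Scheme.Modules.Hom.app ψ O) h) m).symm

end Groth.L19.QCohFpqc
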