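import Groth.Agent.L19.QCohFpqc.Atlas
import Groth.Agent.L19.QCohFpqc.Sheaf
import Groth.Agent.L19.QCohFpqc.Pull
import Groth.Agent.L19.OmegaSh.SqZero

/-!
# Compatible sections over an affine open are the cocycles on an atlas
-/

set_option autoImplicit false
set_option linter.style.haveILetI false
set_option linter.unusedSectionVars false
set_option backward.isDefEq.respectTransparency.types false
set_option backward.isDefEq.respectTransparency false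

universe u

open CategoryTheory CategoryTheory.Limits AlgebraicGeometry TopologicalSpace Opposite

noncomputable section

namespace Groth.L19.QCohFpqc

set_option maxHeartbeats 400000

open Groth.L18.Frame (rs ro rs_rs rs_self rs_smul pull pull_rs pull_smul)

variable {ι : Type u} {S : Scheme.{u}} {X : ι → Scheme.{u}} {f : ∀ i, X i ⟶ S}
variable {D : Desc.modPF.{u}.DescentData f}
variable {B : Scheme.{u}} {b : B ⟶ S} {O : S.Opens}

namespace Atlas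

variable (A : Atlas f b)

theorem le_preimage (hbO : ⊤ ≤ b ⁻¹ᵁ O) (l : Fin A.n) : ⊤ ≤ A.c l ⁻¹ᵁ (f (A.idx l) ⁻¹ᵁ O) :=
  preimage_congr (A.w l) (top_le_comp (A.g l) b hbO)

theorem IsVal.tr {y : A.Fam D} {T : Scheme.{u}} [IsAffine B] [IsAffine T] {i j : ι} {a : T ⟶ X i} {a' : T ⟶ X j}
    {t : T ⟶ B} {x : Sx (ob D i) a} (hx : A.IsVal D y a t x) (h : a ≫ f i = a' ≫ f j) :
    A.IsVal D y a' t (QCohFpqc.tr D a a' h x) := by
  intro Z _ l p q e a₁ a₂ ha₁ ha₂ h'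
  have h₀ : (p ≫ a) ≫ f i = a₁ ≫ f j := by rw [← ha₁, Category.assoc, Category.assoc, h]
  rw [← tr_rsx D p a a' h (p ≫ a) a₁ rfl ha₁ h₀, tr_tr]
  exact hx Z l p q e _ _ rfl ha₂ _

theorem isVal_self {y : A.Fam D} [IsAffine B] (hy : A.Agree D y) (l : Fin A.n) :
    A.IsVal D y (A.c l) (A.g l) (y l) :=
  fun Z _ k p q e a₁ a₂ ha₁ ha₂ h' => hy.apply p q e a₁ a₂ ha₁ ha₂ h'

variable [∀ i, Coh.IsQCoh (ob D i)]

variable (D) in
/-- The values of a section on the pieces. -/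
def restr (hbO : ⊤ ≤ b ⁻¹ᵁ O) : Γ(descended D, O) →+ A.Fam D :=
  AddMonoidHom.mk' (fun m l => ev (ob D _) (A.c l) (A.le_preimage hbO l) (comp D m (A.idx l))) fun m m' =>
    funext fun l => by
      show ev (ob D _) (A.c l) _ (comp D (m + m') _) = _
      rw [comp_add, ev_add]
      rfl

theorem restr_apply (hbO : ⊤ ≤ b ⁻¹ᵁ O) (m : Γ(descended D, O)) (l : Fin A.n) :
    A.restr D hbO m l = ev (ob D _) (A.c l) (A.le_preimage hbO l) (comp D m (A.idx l)) := rfl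

theorem restr_smul (hbO : ⊤ ≤ b ⁻¹ᵁ O) (r : Γ(S, O)) (m : Γ(descended D, O)) (l : Fin A.n) :
    A.restr D hbO (r • m) l = (A.g l).appTop (b.appLE O ⊤ hbO r) • A.restr D hbO m l := by
  rw [restr_apply, comp_smul, ev_smul, restr_apply]
  congr 1
  rw [← CommRingCat.comp_apply, ← Scheme.Hom.comp_appLE]
  refine (appLE_congr' (A.w l).symm _ (top_le_comp (A.g l) b hbO) r).trans ?_
  rw [Scheme.Hom.appTop, Scheme.Hom.app_eq_appLE, ← CommRingCat.comp_apply, Scheme.Hom.appLE_comp_appLE]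
  rfl

variable [IsAffine B]

theorem agree_restr (hbO : ⊤ ≤ b ⁻¹ᵁ O) (m : Γ(descended D, O)) : A.Agree D (A.restr D hbO m) := by
  intro Z _ k l p q e
  rw [restr_apply, restr_apply,
    rsx_ev (ob D _) p (A.c k) _ rfl _ (top_le_comp p (A.c k) (A.le_preimage hbO k)),
    rsx_ev (ob D _) q (A.c l) _ rfl _ (top_le_comp q (A.c l) (A.le_preimage hbO l))]
  exact comp_compat D m Z _ _ _ _ _ _ _

theorem isVal_ev (hbO : ⊤ ≤ b ⁻¹ᵁ O) (m : Γ(descended D, O)) {T : Scheme.{u}} [IsAffine T] {i : ι}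
    (a : T ⟶ X i) (e : ⊤ ≤ a ⁻¹ᵁ (f i ⁻¹ᵁ O)) (t : T ⟶ B) :
    A.IsVal D (A.restr D hbO m) a t (ev (ob D i) a e (comp D m i)) := by
  intro Z _ l p q _ a₁ a₂ ha₁ ha₂ h'
  subst ha₁ ha₂
  rw [restr_apply, rsx_ev (ob D _) p a _ rfl _ (top_le_comp p a e),
    rsx_ev (ob D _) q (A.c l) _ rfl _ (top_le_comp q (A.c l) (A.le_preimage hbO l))]
  exact comp_compat D m Z _ _ _ _ h' _ _

variable [IsOpenImmersion b]

theorem range_le (hO : O ≤ b.opensRange) {T : Scheme.{u}} {i : ι} (a : T ⟶ X i) (e : ⊤ ≤ a ⁻¹ᵁ (f i ⁻¹ᵁ O)) :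
    Set.range (a ≫ f i) ⊆ Set.range b := by
  rintro _ ⟨x, rfl⟩
  rw [Scheme.Hom.comp_apply]
  exact hO (e trivial)

theorem restr_injective (hbO : ⊤ ≤ b ⁻¹ᵁ O) (hO : O ≤ b.opensRange) : Function.Injective (A.restr D hbO) := by
  intro m m' h
  refine comp_ext D fun i => eq_of_affine (ob D i) fun U hU hle => (bijective_ev (ob D i) U).1 ?_
  haveI : IsAffine (U : Scheme.{u}) := hU
  have eU : ⊤ ≤ U.ι ⁻¹ᵁ (f i ⁻¹ᵁ O) := fun x _ => hle x.2
  rw [ev_rs (ob D i) U.ι hle eU, ev_rs (ob D i) U.ι hle eU]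
  let t := IsOpenImmersion.lift b (U.ι ≫ f i) (range_le hO U.ι eU)
  have ht : U.ι ≫ f i = t ≫ b := (IsOpenImmersion.lift_fac b _ _).symm
  refine IsVal.unique ht (A.isVal_ev hbO m U.ι eU t) ?_
  rw [h]
  exact A.isVal_ev hbO m' U.ι eU t

theorem exists_restr (hbO : ⊤ ≤ b ⁻¹ᵁ O) (hO : O ≤ b.opensRange) {y : A.Fam D} (hy : A.Agree D y) :
    ∃ m, A.restr D hbO m = y := by
  have hloc : ∀ i, ∃ s : Γ(ob D i, f i ⁻¹ᵁ O), ∀ (U : (X i).Opens) (hU : IsAffineOpen U) (hle : U ≤ f i ⁻¹ᵁ O)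
      (t : (U : Scheme.{u}) ⟶ B) (_ : U.ι ≫ f i = t ≫ b),
      haveI : IsAffine (U : Scheme.{u}) := hU
      A.IsVal D y U.ι t (ev (ob D i) U.ι (W := U) (fun x _ => x.2) (rs (ob D i) hle s)) := by
    intro i
    have hv : ∀ (U : (X i).affineOpens), U.1 ≤ f i ⁻¹ᵁ O → ∃ v : Γ(ob D i, U.1),
        ∀ (t : (U.1 : Scheme.{u}) ⟶ B) (_ : U.1.ι ≫ f i = t ≫ b),
        haveI : IsAffine (U.1 : Scheme.{u}) := U.2
        A.IsVal D y U.1.ι t (ev (ob D i) U.1.ι (W := U.1) (fun x _ => x.2) v) := by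
      intro U hle
      haveI : IsAffine (U.1 : Scheme.{u}) := U.2
      have eU : ⊤ ≤ U.1.ι ⁻¹ᵁ (f i ⁻¹ᵁ O) := fun x _ => hle x.2
      let t := IsOpenImmersion.lift b (U.1.ι ≫ f i) (range_le hO U.1.ι eU)
      have ht : U.1.ι ≫ f i = t ≫ b := (IsOpenImmersion.lift_fac b _ _).symm
      obtain ⟨x, hx⟩ := exists_val hy U.1.ι t ht
      obtain ⟨v, rfl⟩ := (bijective_ev (ob D i) U.1).2 x
      refine ⟨v, fun t' ht' => ?_⟩
      rw [show t' = t from (cancel_mono b).1 (ht'.symm.trans ht)]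
      exact hx
    choose v hv using hv
    obtain ⟨s, hs, -⟩ := Groth.L19.OmegaSh.existsUnique_glue (ob D i) (fun _ => True)
      (fun x W hx => by
        obtain ⟨_, ⟨U, hU, rfl⟩, hxU, hUW⟩ := (X i).isBasis_affineOpens.exists_subset_of_mem_open hx W.2
        exact ⟨⟨U, hU⟩, trivial, hxU, hUW⟩)
      (f i ⁻¹ᵁ O) (fun U _ hle => v U hle) (fun U U' _ _ hle hle' h => by
        haveI : IsAffine (U.1 : Scheme.{u}) := U.2
        haveI : IsAffine (U'.1 : Scheme.{u}) := U'.2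
        refine (bijective_ev (ob D i) U'.1).1 ?_
        have eU : ⊤ ≤ U.1.ι ⁻¹ᵁ (f i ⁻¹ᵁ O) := fun x _ => hle x.2
        let t := IsOpenImmersion.lift b (U.1.ι ≫ f i) (range_le hO U.1.ι eU)
        have ht : U.1.ι ≫ f i = t ≫ b := (IsOpenImmersion.lift_fac b _ _).symm
        have ht' : U'.1.ι ≫ f i = ((X i).homOfLE h ≫ t) ≫ b := by
          rw [Category.assoc, ← ht, Scheme.homOfLE_ι_assoc]
        refine IsVal.unique ht' ?_ (hv U' hle' _ ht')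
        have e1 : ⊤ ≤ U'.1.ι ⁻¹ᵁ U.1 := fun x _ => h x.2
        rw [ev_rs (ob D i) U'.1.ι h e1 (fun x _ => x.2),
          ← rsx_ev (ob D i) ((X i).homOfLE h) U.1.ι U'.1.ι (Scheme.homOfLE_ι _ _) (fun x _ => x.2) e1]
        exact (hv U hle t ht).rsx _ _ _ _ rfl)
    refine ⟨s, fun U hU hle t ht => ?_⟩
    rw [hs ⟨U, hU⟩ trivial hle]
    exact hv ⟨U, hU⟩ hle t ht
  choose s hs using hloc
  have key : ∀ (T : Scheme.{u}) [IsAffine T] (i : ι) (a : T ⟶ X i) (e : ⊤ ≤ a ⁻¹ᵁ (f i ⁻¹ᵁ O)) (t : T ⟶ B)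
      (_ : a ≫ f i = t ≫ b), A.IsVal D y a t (ev (ob D i) a e (s i)) := by
    intro T _ i a e t ht
    obtain ⟨x, hx⟩ := exists_val hy a t ht
    suffices hxe : ev (ob D i) a e (s i) = x by rw [hxe]; exact hx
    refine eq_of_opens (ob D i) a _ _ fun p => ?_
    obtain ⟨U, hU, hpU, hUle⟩ := exists_isAffineOpen_mem_and_subset (x := a p) (U := f i ⁻¹ᵁ O) (e trivial)
    obtain ⟨T', hT', hpT', hTle⟩ := exists_isAffineOpen_mem_and_subset (x := p) (U := a ⁻¹ᵁ U) hpU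
    refine ⟨T', hT', hpT', ?_⟩
    haveI : IsAffine (T' : Scheme.{u}) := hT'
    haveI : IsAffine (U : Scheme.{u}) := hU
    have eU : ⊤ ≤ U.ι ⁻¹ᵁ (f i ⁻¹ᵁ O) := fun x _ => hUle x.2
    let tU := IsOpenImmersion.lift b (U.ι ≫ f i) (range_le hO U.ι eU)
    have htU : U.ι ≫ f i = tU ≫ b := (IsOpenImmersion.lift_fac b _ _).symm
    have hr : a.resLE U T' hTle ≫ U.ι = T'.ι ≫ a := Scheme.Hom.resLE_comp_ι _ _
    have ht' : (T'.ι ≫ a) ≫ f i = (T'.ι ≫ t) ≫ b := by rw [Category.assoc, Category.assoc, ht]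
    have htt : a.resLE U T' hTle ≫ tU = T'.ι ≫ t := by
      rw [← cancel_mono b, Category.assoc, Category.assoc, ← htU, ← ht, reassoc_of% hr]
    refine IsVal.unique ht' ?_ (hx.rsx _ _ _ rfl rfl)
    have e2 := top_le_comp T'.ι a e
    rw [rsx_ev (ob D i) T'.ι a _ rfl e e2, ← rsx_ev (ob D i) (a.resLE U T' hTle) U.ι (T'.ι ≫ a) hr eU e2,
      ← ev_rs (ob D i) U.ι hUle eU (fun x _ => x.2)]
    exact (hs i U hU hUle tU htU).rsx _ _ _ _ htt
  refine ⟨(⟨s, fun T _ i j a a' h e e' => ?_⟩ : glob D O), funext fun l => ?_⟩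
  · let t := IsOpenImmersion.lift b (a ≫ f i) (range_le hO a e)
    have ht : a ≫ f i = t ≫ b := (IsOpenImmersion.lift_fac b _ _).symm
    exact IsVal.unique (h.symm.trans ht) (IsVal.tr A (key T i a e t ht) h) (key T j a' e' t (h.symm.trans ht))
  · exact IsVal.unique (A.w l).symm (key _ _ _ (A.le_preimage hbO l) _ (A.w l).symm) (A.isVal_self hy l)

theorem agree_iff_restr (hbO : ⊤ ≤ b ⁻¹ᵁ O) (hO : O ≤ b.opensRange) (y : A.Fam D) :
    A.Agree D y ↔ ∃ m, A.restr D hbO m = y :=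
  ⟨A.exists_restr hbO hO, fun ⟨m, hm⟩ => hm ▸ A.agree_restr hbO m⟩

end Atlas

end Groth.L19.QCohFpqc
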